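/-
The Steinberg presentation of SL₂(k) (helper732, section 63).

Let `x y : k → G` be additive, `w(t) = x(t) y(-t⁻¹) x(t)` and `h(t) = w(t) w(-1)`.  If
`w(t) x(s) w(t)⁻¹ = y(-t⁻² s)` and `h` is multiplicative, there is a homomorphism `SL₂(k) → G` with
`up s ↦ x s`, `lo s ↦ y s`.  For finite fields the multiplicativity of `h` is automatic.
-/
import Cfsg.Agent.H731.SL2Pair
set_option linter.all false

set_option autoImplicit false
open Cfsg
open Cfsg.Agent.H731

namespace Cfsg.Agent.H732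

variable {k : Type*} [Field k] {G : Type*} [Group G]

/-- `w(t) = x(t) y(-t⁻¹) x(t)` -/
def ww (x y : k → G) (t : k) : G := x t * y (-t⁻¹) * x t

/-- `h(t) = w(t) w(-1)` -/
def hh (x y : k → G) (t : k) : G := ww x y t * ww x y (-1)

/-- The Steinberg relations of rank one (without the multiplicativity of `h`). -/
structure StRel (x y : k → G) : Prop where
  x_add : ∀ s t, x (s + t) = x s * x t
  y_add : ∀ s t, y (s + t) = y s * y t
  conj : ∀ t, t ≠ 0 → ∀ s, ww x y t * x s * (ww x y t)⁻¹ = y (-(t⁻¹ ^ 2 * s))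

namespace StRel

variable {x y : k → G} (h : StRel x y)

include h

theorem x_zero : x 0 = 1 := by
  have := h.x_add 0 0
  rw [add_zero] at this
  exact (mul_eq_left.1 this.symm)

theorem y_zero : y 0 = 1 := by
  have := h.y_add 0 0
  rw [add_zero] at this
  exact (mul_eq_left.1 this.symm)

theorem x_neg (s : k) : x (-s) = (x s)⁻¹ := by
  rw [eq_inv_iff_mul_eq_one, ← h.x_add, neg_add_cancel, h.x_zero]

theorem y_neg (s : k) : y (-s) = (y s)⁻¹ := by
  rw [eq_inv_iff_mul_eq_one, ← h.y_add, neg_add_cancel, h.y_zero]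

theorem w_neg (t : k) : ww x y (-t) = (ww x y t)⁻¹ := by
  unfold ww
  rw [inv_neg, neg_neg, h.x_neg, h.y_neg]
  simp [mul_assoc]

/-- `w(t)⁻¹ x(s) w(t) = y(-t⁻² s)` -/
theorem conj' {t : k} (ht : t ≠ 0) (s : k) : (ww x y t)⁻¹ * x s * ww x y t = y (-(t⁻¹ ^ 2 * s)) := by
  have := h.conj (-t) (neg_ne_zero.2 ht) s
  rw [h.w_neg, inv_inv] at this
  rw [this]
  congr 2
  rw [inv_neg, neg_sq]

/-- `w(t) y(s) w(t)⁻¹ = x(-t² s)` -/
theorem conj_y {t : k} (ht : t ≠ 0) (s : k) : ww x y t * y s * (ww x y t)⁻¹ = x (-(t ^ 2 * s)) := by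
  have h1 := h.conj' ht (-(t ^ 2 * s))
  have h2 : -(t⁻¹ ^ 2 * -(t ^ 2 * s)) = s := by field_simp
  rw [h2] at h1
  rw [← h1]
  simp [mul_assoc]

/-- `w(t)⁻¹ y(s) w(t) = x(-t² s)` -/
theorem conj_y' {t : k} (ht : t ≠ 0) (s : k) : (ww x y t)⁻¹ * y s * ww x y t = x (-(t ^ 2 * s)) := by
  have h1 := h.conj t ht (-(t ^ 2 * s))
  have h2 : -(t⁻¹ ^ 2 * -(t ^ 2 * s)) = s := by field_simp
  rw [h2] at h1
  rw [← h1]
  simp [mul_assoc]

/-- the braid relation `w(t) = y(-t⁻¹) x(t) y(-t⁻¹)` -/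
theorem w_eq {t : k} (ht : t ≠ 0) : ww x y t = y (-t⁻¹) * x t * y (-t⁻¹) := by
  have h1 := h.conj t ht t
  have h2 : -(t⁻¹ ^ 2 * t) = -t⁻¹ := by field_simp
  rw [h2, mul_inv_eq_iff_eq_mul] at h1
  have h3 : y (-t⁻¹) * ww x y t = y (-t⁻¹) * x t * y (-t⁻¹) * x t := by
    unfold ww; simp only [mul_assoc]
  rw [h3] at h1
  exact mul_right_cancel h1

theorem h_one : hh x y 1 = 1 := by
  unfold hh
  rw [h.w_neg, mul_inv_cancel]

/-- `h(t) x(s) h(t)⁻¹ = x(t² s)` -/
theorem h_conj_x {t : k} (ht : t ≠ 0) (s : k) : hh x y t * x s * (hh x y t)⁻¹ = x (t ^ 2 * s) := by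
  unfold hh
  have h1 := h.conj (-1) (by simp) s
  have h2 := h.conj_y ht (-((-1)⁻¹ ^ 2 * s))
  have h3 : -(t ^ 2 * -((-1)⁻¹ ^ 2 * s)) = t ^ 2 * s := by ring
  rw [h3] at h2
  rw [← h2, ← h1]
  simp [mul_assoc]

/-- `h(t) y(s) h(t)⁻¹ = y(t⁻² s)` -/
theorem h_conj_y {t : k} (ht : t ≠ 0) (s : k) : hh x y t * y s * (hh x y t)⁻¹ = y (t⁻¹ ^ 2 * s) := by
  unfold hh
  have h1 := h.conj_y (t := -1) (by simp) s
  have h2 := h.conj t ht (-((-1) ^ 2 * s))
  have h3 : -(t⁻¹ ^ 2 * -((-1) ^ 2 * s)) = t⁻¹ ^ 2 * s := by ring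
  rw [h3] at h2
  rw [← h2, ← h1]
  simp [mul_assoc]

theorem x_mul_h {t : k} (ht : t ≠ 0) (s : k) : x s * hh x y t = hh x y t * x (t⁻¹ ^ 2 * s) := by
  have h1 := h.h_conj_x ht (t⁻¹ ^ 2 * s)
  have h2 : t ^ 2 * (t⁻¹ ^ 2 * s) = s := by field_simp
  rw [h2, mul_inv_eq_iff_eq_mul] at h1
  exact h1.symm

/-- `h(u) w(t) h(u)⁻¹ = w(u² t)` -/
theorem h_conj_w {u : k} (hu : u ≠ 0) (t : k) : hh x y u * ww x y t * (hh x y u)⁻¹ = ww x y (u ^ 2 * t) := by
  have h1 : hh x y u * ww x y t * (hh x y u)⁻¹ =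
      (hh x y u * x t * (hh x y u)⁻¹) * (hh x y u * y (-t⁻¹) * (hh x y u)⁻¹) *
        (hh x y u * x t * (hh x y u)⁻¹) := by
    unfold ww; simp [mul_assoc]
  rw [h1, h.h_conj_x hu, h.h_conj_y hu]
  unfold ww
  congr 3
  rw [mul_inv, inv_pow]
  ring

/-- `w(1) h(t) w(1)⁻¹ = h(t⁻¹)` -/
theorem w_conj_h {t : k} (ht : t ≠ 0) : ww x y 1 * hh x y t * (ww x y 1)⁻¹ = hh x y t⁻¹ := by
  have h1 : ww x y 1 * ww x y t * (ww x y 1)⁻¹ = ww x y t⁻¹ := by
    have e1 : ww x y 1 * ww x y t * (ww x y 1)⁻¹ = (ww x y 1 * x t * (ww x y 1)⁻¹) *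
        (ww x y 1 * y (-t⁻¹) * (ww x y 1)⁻¹) * (ww x y 1 * x t * (ww x y 1)⁻¹) := by
      simp only [ww]; group
    rw [e1, h.conj 1 one_ne_zero, h.conj_y one_ne_zero, h.w_eq (inv_ne_zero ht)]
    congr 3 <;> congr 1 <;> simp
  unfold hh
  rw [h.w_neg, ← mul_assoc, mul_assoc _ _ (ww x y 1)⁻¹, ← h1]
  simp [mul_assoc]

/-- The identity `w(s) w(-1) w(t) = w(s t)` if `s + t = 1`. -/
theorem w_w_w {s t : k} (hs : s ≠ 0) (ht : t ≠ 0) (hst : s + t = 1) :
    ww x y s * ww x y (-1) * ww x y t = ww x y (s * t) := by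
  have e1 : ∀ r : k, y (-r⁻¹) = x (-r) * ww x y r * x (-r) := by
    intro r
    rw [h.x_neg]; unfold ww; simp [mul_assoc]
  have e2 : y (-s⁻¹) * y (-t⁻¹) = y (-(s * t)⁻¹) := by
    rw [← h.y_add]
    congr 1
    have : s⁻¹ + t⁻¹ = (s * t)⁻¹ := by
      field_simp
      rw [add_comm]; exact hst
    rw [← this]; ring
  rw [e1, e1, e1] at e2
  have e3 : x (-s) * x (-t) = y (-1) * ww x y (-1) * y (-1) := by
    rw [← h.x_add, ← neg_add, hst, h.w_eq (t := -1) (by simp), h.y_neg]
    simp [mul_assoc]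
  have e4 : ww x y s * y (-1) = x (s ^ 2) * ww x y s := by
    have := h.conj_y hs (-1)
    rw [mul_neg, mul_one, neg_neg, mul_inv_eq_iff_eq_mul] at this
    exact this
  have e5 : y (-1) * ww x y t = ww x y t * x (t ^ 2) := by
    have := h.conj_y' ht (-1)
    rw [mul_neg, mul_one, neg_neg, mul_assoc, inv_mul_eq_iff_eq_mul] at this
    exact this
  have e6 : x (-s) * ww x y s * x (-s) * (x (-t) * ww x y t * x (-t)) =
      x (-(s * t)) * (ww x y s * ww x y (-1) * ww x y t) * x (-(s * t)) := by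
    calc x (-s) * ww x y s * x (-s) * (x (-t) * ww x y t * x (-t))
        = x (-s) * ww x y s * (x (-s) * x (-t)) * ww x y t * x (-t) := by simp only [mul_assoc]
      _ = x (-s) * (ww x y s * y (-1)) * ww x y (-1) * (y (-1) * ww x y t) * x (-t) := by
          rw [e3]; simp only [mul_assoc]
      _ = (x (-s) * x (s ^ 2)) * ww x y s * ww x y (-1) * ww x y t * (x (t ^ 2) * x (-t)) := by
          rw [e4, e5]; simp only [mul_assoc]
      _ = x (-(s * t)) * (ww x y s * ww x y (-1) * ww x y t) * x (-(s * t)) := by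
          rw [← h.x_add, ← h.x_add]
          have f1 : -s + s ^ 2 = -(s * t) := by
            have : t = 1 - s := by rw [← hst]; ring
            rw [this]; ring
          have f2 : t ^ 2 + -t = -(s * t) := by
            have : s = 1 - t := by rw [← hst]; ring
            rw [this]; ring
          rw [f1, f2]; simp only [mul_assoc]
  rw [e6] at e2
  exact mul_left_cancel (mul_right_cancel e2)

theorem h_h_of_add {s t : k} (hs : s ≠ 0) (ht : t ≠ 0) (hst : s + t = 1) :
    hh x y s * hh x y t = hh x y (s * t) := by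
  unfold hh
  rw [← h.w_w_w hs ht hst]
  simp only [mul_assoc]

end StRel

/-! ### The homomorphism -/

/-- The map `SL₂(k) → G` defined by the Bruhat decomposition. -/
noncomputable def toFunSL2 [DecidableEq k] (x y : k → G) (g : Matrix.SpecialLinearGroup (Fin 2) k) : G :=
  if (g : Matrix (Fin 2) (Fin 2) k) 1 0 = 0 then
    hh x y ((g : Matrix (Fin 2) (Fin 2) k) 0 0) *
      x (((g : Matrix (Fin 2) (Fin 2) k) 0 0)⁻¹ * (g : Matrix (Fin 2) (Fin 2) k) 0 1)
  else
    x ((g : Matrix (Fin 2) (Fin 2) k) 0 0 / (g : Matrix (Fin 2) (Fin 2) k) 1 0) *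
      ww x y (-((g : Matrix (Fin 2) (Fin 2) k) 1 0)⁻¹) *
      x ((g : Matrix (Fin 2) (Fin 2) k) 1 1 / (g : Matrix (Fin 2) (Fin 2) k) 1 0)

/-- Multiplicativity of `h`. -/
def HMul (x y : k → G) : Prop := ∀ s t : k, s ≠ 0 → t ≠ 0 → hh x y (s * t) = hh x y s * hh x y t

theorem hmul_inv {x y : k → G} (h : StRel x y) (hm : HMul x y) {t : k} (ht : t ≠ 0) :
    hh x y t⁻¹ = (hh x y t)⁻¹ := by
  rw [eq_inv_iff_mul_eq_one, ← hm _ _ (inv_ne_zero ht) ht, inv_mul_cancel₀ ht, h.h_one]

/-- the matrix `w(1)` -/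
def wmat (k : Type*) [Field k] : Matrix.SpecialLinearGroup (Fin 2) k := up k 1 * lo k (-1) * up k 1

theorem wmat_00 : (wmat k : Matrix (Fin 2) (Fin 2) k) 0 0 = 0 := by
  unfold wmat; simp only [sl2_mul, lo_00, lo_01, lo_10, lo_11, up_00, up_01, up_10, up_11]; ring
theorem wmat_01 : (wmat k : Matrix (Fin 2) (Fin 2) k) 0 1 = 1 := by
  unfold wmat; simp only [sl2_mul, lo_00, lo_01, lo_10, lo_11, up_00, up_01, up_10, up_11]; ring
theorem wmat_10 : (wmat k : Matrix (Fin 2) (Fin 2) k) 1 0 = -1 := by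
  unfold wmat; simp only [sl2_mul, lo_00, lo_01, lo_10, lo_11, up_00, up_01, up_10, up_11]; ring
theorem wmat_11 : (wmat k : Matrix (Fin 2) (Fin 2) k) 1 1 = 0 := by
  unfold wmat; simp only [sl2_mul, lo_00, lo_01, lo_10, lo_11, up_00, up_01, up_10, up_11]; ring

theorem toFun_one [DecidableEq k] {x y : k → G} (h : StRel x y) : toFunSL2 x y 1 = 1 := by
  unfold toFunSL2
  rw [if_pos one_10, one_00, one_01, h.h_one, mul_zero, h.x_zero, one_mul]

theorem toFun_up_mul [DecidableEq k] {x y : k → G} (h : StRel x y) (s : k)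
    (g : Matrix.SpecialLinearGroup (Fin 2) k) : toFunSL2 x y (up k s * g) = x s * toFunSL2 x y g := by
  have e00 := sl2_mul (up k s) g 0 0
  have e01 := sl2_mul (up k s) g 0 1
  have e10 := sl2_mul (up k s) g 1 0
  have e11 := sl2_mul (up k s) g 1 1
  simp only [up_00, up_01, up_10, up_11, one_mul, zero_mul, zero_add] at e00 e01 e10 e11
  have hdet := sl2_det g
  unfold toFunSL2
  rw [e00, e01, e10, e11]
  generalize (g : Matrix (Fin 2) (Fin 2) k) 0 0 = a at *
  generalize (g : Matrix (Fin 2) (Fin 2) k) 0 1 = b at *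
  generalize (g : Matrix (Fin 2) (Fin 2) k) 1 0 = c at *
  generalize (g : Matrix (Fin 2) (Fin 2) k) 1 1 = d at *
  by_cases hc : c = 0
  · subst hc
    rw [if_pos rfl, if_pos rfl]
    have ha : a ≠ 0 := by rintro rfl; simp at hdet
    rw [mul_zero, add_zero, ← mul_assoc, h.x_mul_h ha, mul_assoc, ← h.x_add]
    congr 2
    have hd : d = a⁻¹ := by
      apply eq_inv_of_mul_eq_one_left; linear_combination hdet
    rw [hd]; ring
  · rw [if_neg hc, if_neg hc]
    have e : (a + s * c) / c = s + a / c := by field_simp; ring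
    rw [e, h.x_add]
    simp only [mul_assoc]

theorem toFun_w_mul [DecidableEq k] {x y : k → G} (h : StRel x y) (hm : HMul x y)
    (g : Matrix.SpecialLinearGroup (Fin 2) k) : toFunSL2 x y (wmat k * g) = ww x y 1 * toFunSL2 x y g := by
  have e00 := sl2_mul (wmat k) g 0 0
  have e01 := sl2_mul (wmat k) g 0 1
  have e10 := sl2_mul (wmat k) g 1 0
  have e11 := sl2_mul (wmat k) g 1 1
  simp only [wmat_00, wmat_01, wmat_10, wmat_11, one_mul, zero_mul, zero_add, add_zero, neg_mul] at e00 e01 e10 e11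
  have hdet := sl2_det g
  -- w(t⁻¹) = w(1) h(t)
  have hw1 : ∀ t : k, t ≠ 0 → ww x y 1 * hh x y t = ww x y t⁻¹ := by
    intro t ht
    have h1 := h.w_conj_h ht
    rw [mul_inv_eq_iff_eq_mul] at h1
    rw [h1]; unfold hh
    rw [h.w_neg]; simp [mul_assoc]
  -- w(1) w(-t⁻¹) = h(t)
  have hw2 : ∀ t : k, t ≠ 0 → ww x y 1 * ww x y (-t⁻¹) = hh x y t := by
    intro t ht
    rw [h.w_neg, ← hw1 t ht, mul_inv_rev, ← mul_assoc]
    have h1 := h.w_conj_h ht
    rw [hmul_inv h hm ht] at h1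
    have h2 := congrArg (fun z => z⁻¹) h1
    simpa [mul_assoc] using h2
  unfold toFunSL2
  rw [e00, e01, e10, e11]
  generalize (g : Matrix (Fin 2) (Fin 2) k) 0 0 = a at *
  generalize (g : Matrix (Fin 2) (Fin 2) k) 0 1 = b at *
  generalize (g : Matrix (Fin 2) (Fin 2) k) 1 0 = c at *
  generalize (g : Matrix (Fin 2) (Fin 2) k) 1 1 = d at *
  by_cases hc : c = 0
  · subst hc
    have ha : a ≠ 0 := by rintro rfl; simp at hdet
    rw [if_neg (neg_ne_zero.2 ha), if_pos rfl, zero_div, h.x_zero, one_mul, ← mul_assoc, hw1 a ha]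
    congr 2
    · rw [inv_neg, neg_neg]
    · field_simp
  · by_cases ha : a = 0
    · subst ha
      rw [neg_zero, if_pos rfl, if_neg hc, zero_div, h.x_zero, one_mul, ← mul_assoc, hw2 c hc]
      congr 2
      field_simp
    · rw [if_neg (neg_ne_zero.2 ha), if_neg hc]
      -- w(1) x(a/c)
      have f1 : ww x y 1 * x (a / c) = x (-(c / a)) * ww x y (c / a) * x (-(c / a)) * ww x y 1 := by
        have g1 := h.conj 1 one_ne_zero (a / c)
        rw [mul_inv_eq_iff_eq_mul] at g1
        rw [g1]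
        congr 1
        have g2 : y (-(c / a)⁻¹) = x (-(c / a)) * ww x y (c / a) * x (-(c / a)) := by
          rw [h.x_neg]; unfold ww; simp [mul_assoc]
        rw [← g2]
        congr 1
        simp
      have f2 : ww x y (c / a) * hh x y c = ww x y a⁻¹ := by
        have g1 : ww x y (c / a) = ww x y 1 * hh x y (a / c) := by
          rw [hw1 _ (div_ne_zero ha hc), inv_div]
        rw [g1, mul_assoc, ← hm _ _ (div_ne_zero ha hc) hc, div_mul_cancel₀ a hc, hw1 a ha]
      symm
      calc ww x y 1 * (x (a / c) * ww x y (-c⁻¹) * x (d / c))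
          = (ww x y 1 * x (a / c)) * ww x y (-c⁻¹) * x (d / c) := by simp only [mul_assoc]
        _ = x (-(c / a)) * ww x y (c / a) * x (-(c / a)) * (ww x y 1 * ww x y (-c⁻¹)) * x (d / c) := by
            rw [f1]; simp only [mul_assoc]
        _ = x (-(c / a)) * ww x y (c / a) * (x (-(c / a)) * hh x y c) * x (d / c) := by
            rw [hw2 c hc]; simp only [mul_assoc]
        _ = x (-(c / a)) * (ww x y (c / a) * hh x y c) * (x (c⁻¹ ^ 2 * -(c / a)) * x (d / c)) := by
            rw [h.x_mul_h hc]; simp only [mul_assoc]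
        _ = x (c / -a) * ww x y (-(-a)⁻¹) * x (-b / -a) := by
            have g1 : c⁻¹ ^ 2 * -(c / a) + d / c = -b / -a := by
              field_simp
              linear_combination hdet
            have g2 : c / -a = -(c / a) := div_neg c
            rw [f2, ← h.x_add, g1, inv_neg, neg_neg, g2]

theorem closure_up_w : Subgroup.closure (Set.range (up k) ∪ {wmat k}) = ⊤ := by
  rw [eq_top_iff, ← lower_sup_upper]
  have hup : ∀ c, up k c ∈ Subgroup.closure (Set.range (up k) ∪ {wmat k}) := fun c =>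
    Subgroup.subset_closure (Or.inl ⟨c, rfl⟩)
  have hw : wmat k ∈ Subgroup.closure (Set.range (up k) ∪ {wmat k}) := Subgroup.subset_closure (Or.inr rfl)
  refine sup_le ?_ ?_
  · intro g hg
    obtain ⟨c, rfl⟩ := mem_lower_iff.1 hg
    have : lo k c = wmat k * up k (-c) * (wmat k)⁻¹ := by
      rw [eq_mul_inv_iff_mul_eq]
      apply sl2_ext <;> simp only [sl2_mul, lo_00, lo_01, lo_10, lo_11, up_00, up_01, up_10, up_11, wmat_00,
        wmat_01, wmat_10, wmat_11] <;> ring
    rw [this]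
    exact Subgroup.mul_mem _ (Subgroup.mul_mem _ hw (hup _)) (Subgroup.inv_mem _ hw)
  · intro g hg
    obtain ⟨c, rfl⟩ := mem_upper_iff.1 hg
    exact hup c

theorem toFun_mul [DecidableEq k] {x y : k → G} (h : StRel x y) (hm : HMul x y)
    (u g : Matrix.SpecialLinearGroup (Fin 2) k) : toFunSL2 x y (u * g) = toFunSL2 x y u * toFunSL2 x y g := by
  let K : Subgroup (Matrix.SpecialLinearGroup (Fin 2) k) :=
    { carrier := {u | ∀ g, toFunSL2 x y (u * g) = toFunSL2 x y u * toFunSL2 x y g}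
      one_mem' := fun g => by rw [one_mul, toFun_one h, one_mul]
      mul_mem' := by
        intro u v hu hv g
        rw [mul_assoc, hu, hv, hu, mul_assoc]
      inv_mem' := by
        intro u hu g
        have h1 : toFunSL2 x y u * toFunSL2 x y u⁻¹ = 1 := by rw [← hu, mul_inv_cancel, toFun_one h]
        have h2 : toFunSL2 x y u * toFunSL2 x y (u⁻¹ * g) = toFunSL2 x y g := by
          rw [← hu, mul_inv_cancel_left]
        have h3 := eq_inv_of_mul_eq_one_right h1
        rw [← h2, h3, inv_mul_cancel_left] }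
  have hK : K = ⊤ := by
    rw [eq_top_iff, ← closure_up_w, Subgroup.closure_le]
    rintro u (⟨s, rfl⟩ | hu)
    · intro g
      have h1 := toFun_up_mul h s 1
      rw [mul_one, toFun_one h, mul_one] at h1
      rw [toFun_up_mul h, h1]
    · rw [Set.mem_singleton_iff] at hu
      subst hu
      intro g
      have h1 := toFun_w_mul h hm 1
      rw [mul_one, toFun_one h, mul_one] at h1
      rw [toFun_w_mul h hm, h1]
  have hu : u ∈ K := by rw [hK]; exact Subgroup.mem_top _
  exact hu g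

/-- **Steinberg presentation of `SL₂(k)`**, any field. -/
theorem exists_hom {x y : k → G} (h : StRel x y) (hm : HMul x y) :
    ∃ φ : Matrix.SpecialLinearGroup (Fin 2) k →* G, (∀ s, φ (up k s) = x s) ∧ (∀ s, φ (lo k s) = y s) ∧
      (∀ g : Matrix.SpecialLinearGroup (Fin 2) k, (g : Matrix (Fin 2) (Fin 2) k) 1 0 = 0 →
        φ g = hh x y ((g : Matrix (Fin 2) (Fin 2) k) 0 0) *
          x (((g : Matrix (Fin 2) (Fin 2) k) 0 0)⁻¹ * (g : Matrix (Fin 2) (Fin 2) k) 0 1)) ∧
      (∀ g : Matrix.SpecialLinearGroup (Fin 2) k, (g : Matrix (Fin 2) (Fin 2) k) 1 0 ≠ 0 →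
        φ g = x ((g : Matrix (Fin 2) (Fin 2) k) 0 0 / (g : Matrix (Fin 2) (Fin 2) k) 1 0) *
          ww x y (-((g : Matrix (Fin 2) (Fin 2) k) 1 0)⁻¹) *
          x ((g : Matrix (Fin 2) (Fin 2) k) 1 1 / (g : Matrix (Fin 2) (Fin 2) k) 1 0)) := by
  classical
  let φ : Matrix.SpecialLinearGroup (Fin 2) k →* G :=
    { toFun := toFunSL2 x y
      map_one' := toFun_one h
      map_mul' := toFun_mul h hm }
  refine ⟨φ, ?_, ?_, ?_, ?_⟩
  · intro s
    have h1 := toFun_up_mul h s 1
    rw [mul_one, toFun_one h, mul_one] at h1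
    exact h1
  · intro s
    have h1 : ∀ s, φ (up k s) = x s := by
      intro s
      have h1 := toFun_up_mul h s 1
      rw [mul_one, toFun_one h, mul_one] at h1
      exact h1
    have h2 : φ (wmat k) = ww x y 1 := by
      have h1 := toFun_w_mul h hm 1
      rw [mul_one, toFun_one h, mul_one] at h1
      exact h1
    have h3 : lo k s = wmat k * up k (-s) * (wmat k)⁻¹ := by
      rw [eq_mul_inv_iff_mul_eq]
      apply sl2_ext <;> simp only [sl2_mul, lo_00, lo_01, lo_10, lo_11, up_00, up_01, up_10, up_11, wmat_00,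
        wmat_01, wmat_10, wmat_11] <;> ring
    rw [h3, map_mul, map_mul, map_inv, h1, h2, h.conj 1 one_ne_zero]
    congr 1
    simp
  · intro g hg
    exact if_pos hg
  · intro g hg
    exact if_neg hg

/-! ### Finite fields: `h` is multiplicative -/

theorem commute_ww {x y : k → G} {z : G} (hx : ∀ s, z * x s = x s * z) (hy : ∀ s, z * y s = y s * z) (t : k) :
    z * ww x y t = ww x y t * z := by
  unfold ww
  rw [← mul_assoc, ← mul_assoc, hx, mul_assoc (x t) z, hy, ← mul_assoc, mul_assoc _ z (x t), hx, ← mul_assoc]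

theorem commute_hh {x y : k → G} {z : G} (hx : ∀ s, z * x s = x s * z) (hy : ∀ s, z * y s = y s * z) (t : k) :
    z * hh x y t = hh x y t * z := by
  unfold hh
  rw [← mul_assoc, commute_ww hx hy, mul_assoc, commute_ww hx hy, mul_assoc]

/-- conjugation by `h(g)^i`. -/
theorem h_pow_conj_x {x y : k → G} (h : StRel x y) {g : k} (hg : g ≠ 0) (i : ℕ) (s : k) :
    hh x y g ^ i * x s * (hh x y g ^ i)⁻¹ = x ((g ^ i) ^ 2 * s) := by
  induction i generalizing s with
  | zero => simp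
  | succ i ih =>
    have h1 : hh x y g ^ (i + 1) * x s * (hh x y g ^ (i + 1))⁻¹ =
        hh x y g ^ i * (hh x y g * x s * (hh x y g)⁻¹) * (hh x y g ^ i)⁻¹ := by
      rw [pow_succ]; simp [mul_assoc]
    rw [h1, h.h_conj_x hg, ih]
    congr 1
    ring

theorem h_pow_conj_y {x y : k → G} (h : StRel x y) {g : k} (hg : g ≠ 0) (i : ℕ) (s : k) :
    hh x y g ^ i * y s * (hh x y g ^ i)⁻¹ = y ((g ^ i)⁻¹ ^ 2 * s) := by
  induction i generalizing s with
  | zero => simp
  | succ i ih =>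
    have h1 : hh x y g ^ (i + 1) * y s * (hh x y g ^ (i + 1))⁻¹ =
        hh x y g ^ i * (hh x y g * y s * (hh x y g)⁻¹) * (hh x y g ^ i)⁻¹ := by
      rw [pow_succ]; simp [mul_assoc]
    rw [h1, h.h_conj_y hg, ih]
    congr 1
    rw [pow_succ g i, mul_inv, mul_pow]
    ring

theorem h_commute [Finite k] {x y : k → G} (h : StRel x y) {s t : k} (hs : s ≠ 0) (ht : t ≠ 0) :
    hh x y s * hh x y t = hh x y t * hh x y s := by
  obtain ⟨g, hg⟩ := IsCyclic.exists_generator (α := kˣ)
  have hpow : ∀ u : k, u ≠ 0 → ∃ i : ℕ, u = (g : k) ^ i := by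
    intro u hu
    obtain ⟨i, hi⟩ := (mem_powers_iff_mem_zpowers.2 (hg (Units.mk0 u hu)))
    refine ⟨i, ?_⟩
    have := congrArg (fun v : kˣ => (v : k)) hi
    simpa using this.symm
  have key : ∀ u : k, u ≠ 0 → ∃ z : G, ∃ i : ℕ, (∀ s, z * x s = x s * z) ∧ (∀ s, z * y s = y s * z) ∧
      hh x y u = z * hh x y (g : k) ^ i := by
    intro u hu
    obtain ⟨i, hi⟩ := hpow u hu
    refine ⟨hh x y u * (hh x y (g : k) ^ i)⁻¹, i, ?_, ?_, by simp⟩
    · intro s
      have h1 := h_pow_conj_x h g.ne_zero i (u⁻¹ ^ 2 * s)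
      have h2 := h.h_conj_x hu (u⁻¹ ^ 2 * s)
      rw [← hi] at h1
      have h3 : u ^ 2 * (u⁻¹ ^ 2 * s) = s := by field_simp
      rw [h3] at h1 h2
      have h4 : (hh x y (g : k) ^ i)⁻¹ * x s * hh x y (g : k) ^ i = x (u⁻¹ ^ 2 * s) := by
        rw [← h1]; simp [mul_assoc]
      have h5 : hh x y u * (hh x y (g : k) ^ i)⁻¹ * x s * (hh x y u * (hh x y (g : k) ^ i)⁻¹)⁻¹ = x s := by
        conv_rhs => rw [← h2, ← h4]
        simp [mul_assoc]
      exact mul_inv_eq_iff_eq_mul.1 h5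
    · intro s
      have h1 := h_pow_conj_y h g.ne_zero i (u ^ 2 * s)
      have h2 := h.h_conj_y hu (u ^ 2 * s)
      rw [← hi] at h1
      have h3 : u⁻¹ ^ 2 * (u ^ 2 * s) = s := by field_simp
      rw [h3] at h1 h2
      have h4 : (hh x y (g : k) ^ i)⁻¹ * y s * hh x y (g : k) ^ i = y (u ^ 2 * s) := by
        rw [← h1]; simp [mul_assoc]
      have h5 : hh x y u * (hh x y (g : k) ^ i)⁻¹ * y s * (hh x y u * (hh x y (g : k) ^ i)⁻¹)⁻¹ = y s := by
        conv_rhs => rw [← h2, ← h4]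
        simp [mul_assoc]
      exact mul_inv_eq_iff_eq_mul.1 h5
  obtain ⟨z, i, hzx, hzy, hz⟩ := key s hs
  obtain ⟨z', j, hzx', hzy', hz'⟩ := key t ht
  have c1 : Commute z (hh x y (g : k)) := commute_hh hzx hzy _
  have c2 : Commute z' (hh x y (g : k)) := commute_hh hzx' hzy' _
  have c3 : Commute z z' := by
    have h1 : Commute z (hh x y t) := commute_hh hzx hzy _
    have h2 : z' = hh x y t * (hh x y (g : k) ^ j)⁻¹ := by rw [hz']; simp
    rw [h2]
    exact h1.mul_right ((c1.pow_right j).inv_right)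
  rw [hz, hz']
  have c4 : Commute (z * hh x y (g : k) ^ i) (z' * hh x y (g : k) ^ j) :=
    ((c3.mul_right (c1.pow_right j))).mul_left
      (((c2.pow_right i).symm).mul_right ((Commute.refl _).pow_pow i j))
  exact c4

theorem h_sq_mul [Finite k] {x y : k → G} (h : StRel x y) {u t : k} (hu : u ≠ 0) (ht : t ≠ 0) :
    hh x y (u ^ 2 * t) = hh x y (u ^ 2) * hh x y t := by
  have h1 : hh x y u * hh x y t * (hh x y u)⁻¹ = hh x y (u ^ 2 * t) * (hh x y (u ^ 2))⁻¹ := by
    have e1 : hh x y u * hh x y t * (hh x y u)⁻¹ = (hh x y u * ww x y t * (hh x y u)⁻¹) *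
        (hh x y u * ww x y (-1) * (hh x y u)⁻¹) := by
      conv_lhs => rw [show hh x y t = ww x y t * ww x y (-1) from rfl]
      simp [mul_assoc]
    rw [e1, h.h_conj_w hu, h.h_conj_w hu]
    unfold hh
    have e2 : u ^ 2 * -1 = -(u ^ 2) := by ring
    rw [e2, h.w_neg (u ^ 2), h.w_neg 1]
    simp [mul_assoc]
  rw [h_commute h hu ht] at h1
  have h2 : hh x y t = hh x y (u ^ 2 * t) * (hh x y (u ^ 2))⁻¹ := by
    rw [← h1]; simp
  rw [h_commute h (pow_ne_zero 2 hu) ht, h2]
  simp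

theorem exists_nonsquare_add [Finite k] (h2 : (2 : k) ≠ 0) :
    ∃ s t : k, ¬ IsSquare s ∧ ¬ IsSquare t ∧ s + t = 1 := by
  classical
  have := Fintype.ofFinite k
  by_contra hcon
  push Not at hcon
  have hsq : ∀ s : k, ¬ IsSquare s → IsSquare (1 - s) := by
    intro s hs
    by_contra h3
    exact hcon s (1 - s) hs h3 (by ring)
  have hchar : ringChar k ≠ 2 := by
    intro h3
    apply h2
    have := ringChar.Nat.cast_ringChar (R := k)
    rw [h3] at this
    exact_mod_cast this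
  -- a nonsquare exists
  obtain ⟨a, ha⟩ := FiniteField.exists_nonsquare hchar
  have ha0 : a ≠ 0 := by rintro rfl; exact ha (IsSquare.zero)
  -- nonsquares and non-zero squares are equinumerous
  let N := (Finset.univ : Finset k).filter (fun s => ¬ IsSquare s)
  let Q := (Finset.univ : Finset k).filter (fun s => s ≠ 0 ∧ IsSquare s)
  have hQN : Q.card ≤ N.card := by
    apply Finset.card_le_card_of_injOn (fun s => a * s)
    · intro s hs
      simp only [Q, N, Finset.coe_filter, Finset.mem_univ, true_and, Set.mem_ofPred_eq] at hs ⊢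
      rintro ⟨r, hr⟩
      obtain ⟨hs0, u, hu⟩ := hs
      apply ha
      have hu0 : u ≠ 0 := by rintro rfl; simp at hu; exact hs0 hu
      refine ⟨r / u, ?_⟩
      have : a * (u * u) = r * r := by rw [← hu]; exact hr
      field_simp
      linear_combination this
    · intro s _ t _ hst
      exact mul_left_cancel₀ ha0 hst
  have hinj : Set.InjOn (fun s : k => 1 - s) (N : Set k) := by
    intro s _ t _ hst
    simpa using hst
  have hmaps : Set.MapsTo (fun s : k => 1 - s) (N : Set k) (Q : Set k) := by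
    intro s hs
    simp only [Q, N, Finset.coe_filter, Finset.mem_univ, true_and, Set.mem_ofPred_eq] at hs ⊢
    refine ⟨?_, hsq s hs⟩
    intro h3
    apply hs
    have : s = 1 := (sub_eq_zero.1 h3).symm
    rw [this]; exact ⟨1, by simp⟩
  have hsurj := Finset.surjOn_of_injOn_of_card_le (fun s : k => 1 - s) hmaps hinj hQN
  have h1Q : (1 : k) ∈ (Q : Set k) := by
    simp only [Q, Finset.coe_filter, Finset.mem_univ, true_and, Set.mem_ofPred_eq]
    exact ⟨one_ne_zero, ⟨1, by simp⟩⟩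
  obtain ⟨s, hs, hs1⟩ := hsurj h1Q
  have hs0 : s = 0 := by
    have : 1 - s = 1 := hs1
    linear_combination -this
  simp only [N, Finset.coe_filter, Finset.mem_univ, true_and, Set.mem_ofPred_eq] at hs
  apply hs
  rw [hs0]; exact IsSquare.zero

/-- **For finite fields the Steinberg relations imply the multiplicativity of `h`.** -/
theorem hmul_of_finite [Finite k] {x y : k → G} (h : StRel x y) : HMul x y := by
  by_cases h2 : (2 : k) = 0
  · -- characteristic two: every element is a square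
    intro s t hs ht
    have hchar : CharP k 2 := by
      refine CharTwo.of_one_ne_zero_of_two_eq_zero one_ne_zero h2
    obtain ⟨u, hu⟩ := FiniteField.isSquare_of_char_two (F := k) (ringChar.eq k 2 ▸ rfl) s
    have hu0 : u ≠ 0 := by rintro rfl; simp at hu; exact hs hu
    rw [hu, ← pow_two, h_sq_mul h hu0 ht]
  · obtain ⟨s, t, hs, ht, hst⟩ := exists_nonsquare_add h2
    have hs0 : s ≠ 0 := by rintro rfl; exact hs IsSquare.zero
    have ht0 : t ≠ 0 := by rintro rfl; exact ht IsSquare.zero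
    -- every nonsquare is `s` times a square
    have hns : ∀ r : k, ¬ IsSquare r → ∃ u : k, u ≠ 0 ∧ r = u ^ 2 * s := by
      intro r hr
      have hr0 : r ≠ 0 := by rintro rfl; exact hr IsSquare.zero
      have hrs : IsSquare (r * s⁻¹) := by
        classical
        have := Fintype.ofFinite k
        have hchar : ringChar k ≠ 2 := by
          intro h3
          apply h2
          have := ringChar.Nat.cast_ringChar (R := k)
          rw [h3] at this
          exact_mod_cast this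
        have h3 : quadraticChar k (r * s⁻¹) = 1 := by
          rw [map_mul, quadraticChar_neg_one_iff_not_isSquare.2 hr]
          have : quadraticChar k s⁻¹ = -1 := by
            rw [quadraticChar_neg_one_iff_not_isSquare]
            rintro ⟨v, hv⟩
            apply hs
            refine ⟨v⁻¹, ?_⟩
            rw [← mul_inv, ← hv, inv_inv]
          rw [this]; norm_num
        exact (quadraticChar_one_iff_isSquare (mul_ne_zero hr0 (inv_ne_zero hs0))).1 h3
      obtain ⟨u, hu⟩ := hrs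
      refine ⟨u, ?_, ?_⟩
      · rintro rfl
        rw [mul_zero] at hu
        exact mul_ne_zero hr0 (inv_ne_zero hs0) hu
      · rw [pow_two, ← hu, inv_mul_cancel_right₀ hs0]
    obtain ⟨u, hu0, hu⟩ := hns t ht
    have hss : hh x y s * hh x y s = hh x y (s ^ 2) := by
      have h3 := h.h_h_of_add hs0 ht0 hst
      rw [hu, h_sq_mul h hu0 hs0] at h3
      have h4 : hh x y (s * (u ^ 2 * s)) = hh x y (u ^ 2) * hh x y (s ^ 2) := by
        rw [show s * (u ^ 2 * s) = u ^ 2 * s ^ 2 by ring, h_sq_mul h hu0 (pow_ne_zero 2 hs0)]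
      rw [h4, ← mul_assoc, h_commute h hs0 (pow_ne_zero 2 hu0), mul_assoc] at h3
      exact mul_left_cancel h3
    intro a b ha hb
    by_cases hsa : IsSquare a
    · obtain ⟨v, hv⟩ := hsa
      have hv0 : v ≠ 0 := by rintro rfl; simp at hv; exact ha hv
      rw [hv, ← pow_two, h_sq_mul h hv0 hb]
    · by_cases hsb : IsSquare b
      · obtain ⟨v, hv⟩ := hsb
        have hv0 : v ≠ 0 := by rintro rfl; simp at hv; exact hb hv
        rw [h_commute h ha hb, hv, ← pow_two, mul_comm, h_sq_mul h hv0 ha]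
      · obtain ⟨v, hv0, hv⟩ := hns a hsa
        obtain ⟨v', hv0', hv'⟩ := hns b hsb
        have e1 : a * b = v ^ 2 * (v' ^ 2 * s ^ 2) := by rw [hv, hv']; ring
        have hv2 := pow_ne_zero 2 hv0
        have hv2' := pow_ne_zero 2 hv0'
        rw [e1, h_sq_mul h hv0 (mul_ne_zero hv2' (pow_ne_zero 2 hs0)),
          h_sq_mul h hv0' (pow_ne_zero 2 hs0), ← hss, hv, hv', h_sq_mul h hv0 hs0,
          h_sq_mul h hv0' hs0]
        have c := h_commute h hv2' hs0
        calc hh x y (v ^ 2) * (hh x y (v' ^ 2) * (hh x y s * hh x y s))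
            = hh x y (v ^ 2) * ((hh x y (v' ^ 2) * hh x y s) * hh x y s) := by simp only [mul_assoc]
          _ = hh x y (v ^ 2) * ((hh x y s * hh x y (v' ^ 2)) * hh x y s) := by rw [c]
          _ = hh x y (v ^ 2) * hh x y s * (hh x y (v' ^ 2) * hh x y s) := by simp only [mul_assoc]

end Cfsg.Agent.H732
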