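import Cfsg.Agent.H396.HasCG
import Cfsg.Agent.FixBN.Split
import Cfsg.Agent.Lib.MinNormalNonabelian
import Cfsg.Prelude.Def_DegreeGraph
import Cfsg.Agent.H163.Steinberg
import Cfsg.Agent.H167.AltBldg
import Cfsg.Agent.FastGrp
import Cfsg.Agent.Prune
set_option linter.all false

section
prune_inst 0x7f00000000000000000000000000000000000000000000000000000000000000000000000000000000000000000000000000000000000000000000000000000000000000000000000000000000000000003fffffffffffffffffffffffffffbeffbdffffffff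

-- part: H638/FD/Def
section
set_option linter.all false

/-!
# Four character degrees: definitions (helper638, S4898)

* `HasCG' p G` : `H396.HasCG` with a diagram which is not of type `A₂` and not all simple root groups of order 2 in rank 2;
* `IsSt p θ` : `θ` is an irreducible character of degree `|S|_p`, invariant under all automorphisms, with
  `[θ_B, 1_B] = 1` for the normaliser `B` of a Sylow `p`-subgroup;
* `CD G` : the set of the character degrees, `ncard`.
-/

set_option autoImplicit false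

namespace Cfsg.Agent.H638.FD

open CoxeterSystem Cfsg.Agent.ChevalleyStructure.CoxeterGeom Cfsg.Agent.Tits.Roots Cfsg.Agent.Tits.Core
  Cfsg.Agent.Nodes.Reps Cfsg.Agent.Nodes.BNOf Cfsg.Agent.Omega.EH3.Kf.Lev

/-- `HasCG` with a diagram which is not of type `A₂`. -/
def HasCG' (p : ℕ) (G : Type*) [Group G] : Prop :=
  ∃ (l : ℕ) (M : CoxeterMatrix (Fin l)) (A : Fin l → Fin l → ℤ) (h : IsCartan M A) (T : Subgroup G) (n : Fin l → G)
    (X : (Fin l → ℤ) → Subgroup G), 2 ≤ l ∧ Finite M.Group ∧ RGD M.toCoxeterSystem h p T n X ∧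
      Nodes.RGDLib.G1 M.toCoxeterSystem h X = ⊤ ∧ CommGen M.toCoxeterSystem h X ∧ H396.Conn M ∧
      (l = 2 → (∀ i j, M i j ≠ 3) ∧ ∃ i, 2 < Nat.card (X (sr i)))

/-- The properties of the Steinberg character. -/
def IsSt (p : ℕ) {S : Type*} [Group S] (θ : S → ℂ) : Prop :=
  Cfsg.IsIrrCharacter S θ ∧ (∀ α : S ≃* S, ∀ s : S, θ (α s) = θ s) ∧
    ∀ P : Sylow p S, θ 1 = (Nat.card P : ℂ) ∧
      ∑ᶠ b : ↥(Subgroup.normalizer ((P : Subgroup S) : Set S)), θ b =
        (Nat.card ↥(Subgroup.normalizer ((P : Subgroup S) : Set S)) : ℂ)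

end Cfsg.Agent.H638.FD
end

-- part: H732/StInv
section
set_option linter.all false
open scoped Cfsg.Agent.FastGrp

/-!
# The Steinberg character of a finite split (B,N)-pair: invariance and the Borel subgroup (helper732, for S4898)

* `stf B g` : the alternating sum of the permutation characters on the cosets of the overgroups of `B`;
* `stf_map` : transport under isomorphisms;
* `exists_isSt` : the Steinberg character is irreducible, invariant under all automorphisms, of degree `|P|`, and contains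
  the trivial character of the normaliser of `P` exactly once.
-/

set_option autoImplicit false

namespace Cfsg.Agent.H732.StInv

open Cfsg Cfsg.Agent Cfsg.Agent.Tits.Core Cfsg.Agent.Tits.Core.Bldg Cfsg.Agent.Tits.OfBN Cfsg.Agent.FixBN

universe u v

/-- the alternating sum over the overgroups of `B` (a Boolean lattice) -/
noncomputable def stf {K : Type u} [Group K] (B : Subgroup K) (g : K) : ℂ :=
  ∑ᶠ M : {M : Subgroup K // B ≤ M}, (-1 : ℂ) ^ (Nat.log 2 (Nat.card {M' : Subgroup K // B ≤ M' ∧ M' ≤ (M : Subgroup K)})) *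
    fixedPointCharacter (M : Subgroup K) g

section transport

variable {K : Type u} [Group K] {L : Type v} [Group L]

theorem fix_map (α : K ≃* L) (M : Subgroup K) (g : K) :
    fixedPointCharacter (M.map α.toMonoidHom) (α g) = fixedPointCharacter M g := by
  unfold fixedPointCharacter
  congr 1
  have hmem : ∀ x : K, α x ∈ M.map α.toMonoidHom ↔ x ∈ M := by
    intro x
    constructor
    · rintro ⟨y, hy, e⟩
      have : y = x := α.injective e
      exact this ▸ hy
    · intro hx
      exact ⟨x, hx, rfl⟩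
  let f : K ⧸ M ≃ L ⧸ M.map α.toMonoidHom :=
    { toFun := Quotient.map' α (by
        intro a b hab
        rw [QuotientGroup.leftRel_apply] at hab ⊢
        rw [← map_inv, ← map_mul, hmem]
        exact hab)
      invFun := Quotient.map' α.symm (by
        intro a b hab
        rw [QuotientGroup.leftRel_apply] at hab ⊢
        rw [← map_inv, ← map_mul, ← hmem, α.apply_symm_apply]
        exact hab)
      left_inv := by
        intro x
        induction x using QuotientGroup.induction_on with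
        | _ a =>
        show QuotientGroup.mk (α.symm (α a)) = QuotientGroup.mk a
        rw [α.symm_apply_apply]
      right_inv := by
        intro x
        induction x using QuotientGroup.induction_on with
        | _ a =>
        show QuotientGroup.mk (α (α.symm a)) = QuotientGroup.mk a
        rw [α.apply_symm_apply] }
  have hf : ∀ x : K ⧸ M, f (g • x) = α g • f x := by
    intro x
    induction x using QuotientGroup.induction_on with
    | _ a =>
    show QuotientGroup.mk (α (g * a)) = QuotientGroup.mk (α g * α a)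
    rw [map_mul]
  symm
  refine Nat.card_congr (f.subtypeEquiv fun x => ?_)
  constructor
  · intro h
    have h' : g • x = x := h
    show α g • f x = f x
    rw [← hf, h']
  · intro h
    have h' : α g • f x = f x := h
    show g • x = x
    rw [← hf] at h'
    exact f.injective h'

theorem stf_map (α : K ≃* L) (B : Subgroup K) (g : K) : stf (B.map α.toMonoidHom) (α g) = stf B g := by
  unfold stf
  have hle : ∀ A M : Subgroup K, A.map α.toMonoidHom ≤ M.map α.toMonoidHom ↔ A ≤ M := fun A M =>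
    Subgroup.map_le_map_iff_of_injective α.injective
  have hsurj : ∀ M : Subgroup L, ∃ M' : Subgroup K, M'.map α.toMonoidHom = M := fun M =>
    ⟨M.comap α.toMonoidHom, Subgroup.map_comap_eq_self_of_surjective α.surjective M⟩
  have hinj : Function.Injective (fun M : Subgroup K => M.map α.toMonoidHom) :=
    Subgroup.map_injective α.injective
  let f : {M : Subgroup K // B ≤ M} ≃ {M : Subgroup L // B.map α.toMonoidHom ≤ M} :=
    Equiv.ofBijective (fun M => ⟨(M : Subgroup K).map α.toMonoidHom, (hle _ _).2 M.2⟩)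
      ⟨fun a b h => Subtype.ext (hinj (congrArg Subtype.val h)), fun M => by
        obtain ⟨M', h⟩ := hsurj M
        exact ⟨⟨M', by rw [← hle, h]; exact M.2⟩, Subtype.ext h⟩⟩
  symm
  rw [← finsum_comp_equiv f]
  refine finsum_congr fun M => ?_
  have h1 : ((f M : {M : Subgroup L // B.map α.toMonoidHom ≤ M}) : Subgroup L) = (M : Subgroup K).map α.toMonoidHom := rfl
  rw [h1, fix_map]
  congr 3
  refine Nat.card_congr (Equiv.ofBijective
    (fun M' : {M' : Subgroup K // B ≤ M' ∧ M' ≤ (M : Subgroup K)} =>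
      (⟨(M' : Subgroup K).map α.toMonoidHom, (hle _ _).2 M'.2.1, (hle _ _).2 M'.2.2⟩ :
        {M' : Subgroup L // B.map α.toMonoidHom ≤ M' ∧ M' ≤ (M : Subgroup K).map α.toMonoidHom}))
    ⟨fun a b h => Subtype.ext (hinj (congrArg Subtype.val h)), fun M' => by
        obtain ⟨M'', h⟩ := hsurj M'
        exact ⟨⟨M'', by rw [← hle, h]; exact M'.2.1, by rw [← hle, h]; exact M'.2.2⟩, Subtype.ext h⟩⟩)

theorem fix_conj (M : Subgroup K) (x g : K) : fixedPointCharacter M (x * g * x⁻¹) = fixedPointCharacter M g := by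
  unfold fixedPointCharacter
  congr 1
  symm
  refine Nat.card_congr ((MulAction.toPerm x : Equiv.Perm (K ⧸ M)).subtypeEquiv fun y => ?_)
  show g • y = y ↔ (x * g * x⁻¹) • x • y = x • y
  rw [← mul_smul, inv_mul_cancel_right, mul_smul]
  exact (smul_left_cancel_iff x).symm

theorem stf_conj (B : Subgroup K) (x g : K) : stf B (x * g * x⁻¹) = stf B g := by
  unfold stf
  refine finsum_congr fun M => ?_
  rw [fix_conj]

end transport

section main

variable {K : Type u} [Group K]

/-- the alternating sum over a family of parabolic subgroups indexed by the subsets of `I` -/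
theorem sum_eq_stf [Finite K] {P : Cfsg.BNPair K} [Fintype P.S] [DecidableEq P.S] (Q : Finset P.S → Subgroup K)
    (hB : ∀ J, P.B ≤ Q J) (hQ : ∀ (J : Finset P.S) (s : P.S), (s : K) ∈ Q J ↔ s ∈ J) (g : K) :
    (∑ J ∈ (Finset.univ : Finset P.S).powerset, (-1 : ℂ) ^ J.card * fixedPointCharacter (Q J) g) = stf P.B g := by
  classical
  have hover : ∀ M M' : Subgroup K, P.B ≤ M → P.B ≤ M' → (∀ s ∈ P.S, s ∈ M → s ∈ M') → M ≤ M' := by
    intro M M' h1 h2 h3
    rw [LieExceptional.BNPairCore.eq_parabolic h1, LieExceptional.BNPairCore.eq_parabolic h2]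
    unfold Cfsg.BNPair.parabolic
    exact sup_le_sup le_rfl (Subgroup.closure_mono fun s hs => ⟨hs.1, h3 s hs.1 hs.2⟩)
  have hmono : ∀ J J' : Finset P.S, Q J ≤ Q J' ↔ J ⊆ J' := by
    intro J J'
    constructor
    · intro h s hs
      exact (hQ J' s).1 (h ((hQ J s).2 hs))
    · intro h
      exact hover _ _ (hB J) (hB J') fun s hs hsJ => (hQ J' ⟨s, hs⟩).2 (h ((hQ J ⟨s, hs⟩).1 hsJ))
  have hsurj : ∀ M : Subgroup K, P.B ≤ M → ∃ J, Q J = M := by
    intro M hM
    refine ⟨Finset.univ.filter fun s : P.S => (s : K) ∈ M, ?_⟩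
    apply le_antisymm
    · exact hover _ _ (hB _) hM fun s hs hsJ => by
        have := (hQ _ ⟨s, hs⟩).1 hsJ
        exact (Finset.mem_filter.1 this).2
    · exact hover _ _ hM (hB _) fun s hs hsM =>
        (hQ _ ⟨s, hs⟩).2 (Finset.mem_filter.2 ⟨Finset.mem_univ _, hsM⟩)
  let f : Finset P.S ≃ {M : Subgroup K // P.B ≤ M} :=
    Equiv.ofBijective (fun J => ⟨Q J, hB J⟩)
      ⟨fun J J' h => by
        have h1 : Q J = Q J' := congrArg Subtype.val h
        exact Finset.Subset.antisymm ((hmono J J').1 h1.le) ((hmono J' J).1 h1.ge), fun M => by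
        obtain ⟨J, hJ⟩ := hsurj M M.2
        exact ⟨J, Subtype.ext hJ⟩⟩
  unfold stf
  rw [← finsum_comp_equiv f, finsum_eq_sum_of_fintype, Finset.powerset_univ]
  refine Finset.sum_congr rfl fun J _ => ?_
  have h1 : ((f J : {M : Subgroup K // P.B ≤ M}) : Subgroup K) = Q J := rfl
  rw [h1]
  congr 2
  have h2 : Nat.card {M' : Subgroup K // P.B ≤ M' ∧ M' ≤ Q J} = 2 ^ J.card := by
    rw [← Finset.card_powerset, ← Fintype.card_coe, ← Nat.card_eq_fintype_card]
    symm
    refine Nat.card_congr (Equiv.ofBijective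
      (fun J' : {J' // J' ∈ J.powerset} => (⟨Q J', hB _, (hmono _ _).2 (Finset.mem_powerset.1 J'.2)⟩ :
        {M' : Subgroup K // P.B ≤ M' ∧ M' ≤ Q J})) ⟨fun a b h => ?_, fun M' => ?_⟩)
    · have h1 : Q a = Q b := congrArg Subtype.val h
      exact Subtype.ext (Finset.Subset.antisymm ((hmono _ _).1 h1.le) ((hmono _ _).1 h1.ge))
    · obtain ⟨J', hJ'⟩ := hsurj M' M'.2.1
      exact ⟨⟨J', Finset.mem_powerset.2 ((hmono _ _).1 (hJ' ▸ M'.2.2))⟩, Subtype.ext hJ'⟩
  rw [h2, Nat.log_pow (by norm_num)]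

/-- the properties of the alternating sum -/
theorem exists_isSt_of_split [Finite K] {P : Cfsg.BNPair K} {p : ℕ} [Fact p.Prime] {U : Subgroup K}
    (h : Split P p U) : ∃ θ : K → ℂ, H638.FD.IsSt p θ := by
  classical
  have hN : ((P.B ⊓ P.N).subgroupOf P.N).Normal := normal_subgroupOf P
  obtain ⟨M, cs, hcs⟩ := S0320.result P
  have : Fintype P.S := Fintype.ofFinite _
  have : Fintype (K ⧸ P.B) := Fintype.ofFinite _
  have : Fintype K := Fintype.ofFinite _
  have hC : Tits.OppRes.Cox cs := inferInstance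
  set Δ := bldg P (Equiv.refl P.S) cs hcs with hΔ
  let S : FixBN.Sys Δ K p := FixBN.OfBN.sys (Equiv.refl P.S) cs hcs h
  set c : K ⧸ P.B := QuotientGroup.mk 1 with hc
  have hiso : ∀ (g : K) (x y : K ⧸ P.B), Δ.δ (g • x) (g • y) = Δ.δ x y := fun g x y => dist_smul P g x y
  have htr : ∀ x y x' y', Δ.δ x y = Δ.δ x' y' → ∃ g : K, g • x = x' ∧ g • y = y' :=
    fun x y x' y' hd => Cfsg.Agent.Tits.OfBN.trans P x y x' y' hd
  -- the parabolic subgroups
  let Q : Finset P.S → Subgroup K := fun J =>
    { carrier := {g | Δ.δ c (g • c) ∈ WJ cs (J : Set P.S)}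
      one_mem' := by
        show Δ.δ c ((1 : K) • c) ∈ WJ cs (J : Set P.S)
        rw [one_smul, (Δ.eq_one c c).2 rfl]
        exact one_mem _
      mul_mem' := by
        intro a b ha hb
        show Δ.δ c ((a * b) • c) ∈ WJ cs (J : Set P.S)
        have h1 : (a • c) ∈ Δ.Res (J : Set P.S) c := Δ.mem_Res.2 ha
        have h2 : (a • b • c) ∈ Δ.Res (J : Set P.S) (a • c) := by
          rw [Δ.mem_Res, hiso]; exact hb
        rw [mul_smul]
        exact Δ.mem_Res.1 (Δ.mem_Res_trans h1 h2)
      inv_mem' := by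
        intro a ha
        show Δ.δ c (a⁻¹ • c) ∈ WJ cs (J : Set P.S)
        rw [← hiso a, smul_inv_smul]
        have h1 : (a • c) ∈ Δ.Res (J : Set P.S) c := Δ.mem_Res.2 ha
        exact Δ.mem_Res.1 (Δ.mem_Res_symm h1) }
  have hQ : ∀ (J : Finset P.S) (g : K), g ∈ Q J ↔ Δ.δ c (g • c) ∈ WJ cs (J : Set P.S) := fun J g => Iff.rfl
  -- the apartment
  let a : WP P → K ⧸ P.B := fun w => QuotientGroup.mk ((w.out : P.N) : K)
  have ha : ∀ v w, Δ.δ (a v) (a w) = v⁻¹ * w := by
    intro v w
    show dist P (QuotientGroup.mk ((v.out : P.N) : K)) (QuotientGroup.mk ((w.out : P.N) : K)) = _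
    rw [dist_mk]
    have h1 : ((v.out : P.N) : K)⁻¹ * ((w.out : P.N) : K) = ((v.out⁻¹ * w.out : P.N) : K) := by push_cast; rfl
    rw [h1, wt_of_mem P (n := v.out⁻¹ * w.out) (LieExceptional.BNPairCore.self_mem_C _), QuotientGroup.mk_mul,
      QuotientGroup.mk_inv, QuotientGroup.out_eq', QuotientGroup.out_eq']
  obtain ⟨hirr, hval⟩ := H167.AltBldg.exists_char_alt Δ hiso htr a ha c Q hQ
  -- the stabiliser of `c`
  have hstab : ∀ g : K, g • c = c ↔ g ∈ P.B := by
    intro g
    rw [hc, FixBN.OfBN.smul_mk_eq]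
    simp
  have hBQ : ∀ J, P.B ≤ Q J := by
    intro J b hb
    rw [hQ, (hstab b).2 hb, (Δ.eq_one c c).2 rfl]
    exact one_mem _
  have hsQ : ∀ (J : Finset P.S) (s : P.S), (s : K) ∈ Q J ↔ s ∈ J := by
    intro J s
    rw [hQ]
    have h1 : Δ.δ c ((s : K) • c) = cs.simple s := by
      show dist P (QuotientGroup.mk 1) (QuotientGroup.mk ((s : K) * 1)) = _
      rw [dist_mk, inv_one, one_mul, mul_one, hcs,
        wt_of_mem P (n := (⟨(s : K), P.subset s.2⟩ : P.N)) (LieExceptional.BNPairCore.self_mem_C _)]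
    rw [h1]
    constructor
    · intro h2
      exact hC.descent_mem (J : Set P.S) _ h2 s (by
        rw [cs.simple_mul_simple_self, cs.length_one, cs.length_simple]
        exact Nat.one_pos)
    · intro hs
      exact Subgroup.subset_closure ⟨s, hs, rfl⟩
  have hsum := sum_eq_stf Q hBQ hsQ
  have hθ : IsIrrCharacter K (stf P.B) := by
    have h1 : (fun g => ∑ J ∈ (Finset.univ : Finset P.S).powerset, (-1 : ℂ) ^ J.card *
        fixedPointCharacter (Q J) g) = stf P.B := funext hsum
    rwa [h1] at hirr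
  have hval' : ∀ g : K, g • c = c → stf P.B g = (Nat.card {y : K ⧸ P.B // Δ.Opp c y ∧ g • y = y} : ℂ) := by
    intro g hg
    rw [← hsum]
    exact hval c g hg
  have hnorm := h.normalizer_eq
  -- Sylow subgroups
  have hsyl : ∀ R : Sylow p K, ∃ x : K, (R : Subgroup K) = U.map (MulAut.conj x).toMonoidHom := by
    intro R
    obtain ⟨y, hy⟩ := S.exists_fix R R.isPGroup'
    have hR : (R : Subgroup K) = S.U y :=
      (R.is_maximal' (S.isP y) (S.max y R R.isPGroup' hy)).symm
    exact ⟨y.out, hR⟩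
  have hnc : ∀ x : K, Subgroup.normalizer (U.map (MulAut.conj x).toMonoidHom : Set K) =
      P.B.map (MulAut.conj x).toMonoidHom := by
    intro x
    rw [← hnorm]
    exact (Subgroup.map_equiv_normalizer_eq U (MulAut.conj x)).symm
  -- the opposite chambers
  have hUc : ∀ u : K, u ∈ S.U c ↔ u ∈ U := by
    intro u
    show u ∈ FixBN.OfBN.UU P U (QuotientGroup.mk 1) ↔ u ∈ U
    rw [FixBN.OfBN.mem_UU h]
    simp
  obtain ⟨d, hd⟩ : ∃ d, Δ.Opp c d := Tits.Opp.exists_opp Δ c
  have hopp : ∀ g : K, g • c = c → ∀ y, Δ.Opp c y → Δ.Opp c (g • y) := by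
    intro g hg y hy
    have h1 := hiso g c y
    rw [hg] at h1
    exact h1.trans hy
  have hone : stf P.B 1 = (Nat.card U : ℂ) := by
    rw [hval' 1 (one_smul _ _)]
    congr 1
    refine (Nat.card_congr (Equiv.ofBijective
      (fun v : U => (⟨(v : K) • d, hopp v ((hstab _).2 (h.le v.2)) d hd, one_smul _ _⟩ :
        {y : K ⧸ P.B // Δ.Opp c y ∧ (1 : K) • y = y})) ⟨?_, ?_⟩)).symm
    · intro v w hvw
      have h1 : (v : K) • d = (w : K) • d := congrArg Subtype.val hvw
      have h2 : ((w : K)⁻¹ * v) • d = d := by rw [mul_smul, h1, inv_smul_smul]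
      have h3 := S.free c d hd _ ((hUc _).2 (mul_mem (inv_mem w.2) v.2)) h2
      exact Subtype.ext (inv_mul_eq_one.1 h3).symm
    · rintro ⟨e, he, -⟩
      obtain ⟨v, hv, rfl⟩ := S.trans c d e hd he
      exact ⟨⟨v, (hUc _).1 hv⟩, rfl⟩
  have hsumB : ∑ b : P.B, stf P.B (b : K) = (Nat.card P.B : ℂ) := by
    let X := {y : K ⧸ P.B // Δ.Opp c y}
    let act : MulAction P.B X :=
      { smul := fun b y => ⟨(b : K) • (y : K ⧸ P.B), hopp b ((hstab _).2 b.2) y y.2⟩
        one_smul := fun y => Subtype.ext (one_smul K (y : K ⧸ P.B))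
        mul_smul := fun a b y => Subtype.ext (mul_smul (a : K) (b : K) (y : K ⧸ P.B)) }
    have hcoe : ∀ (b : P.B) (y : X), ((b • y : X) : K ⧸ P.B) = (b : K) • (y : K ⧸ P.B) := fun _ _ => rfl
    have h1 : ∀ b : P.B, stf P.B (b : K) = (Fintype.card (MulAction.fixedBy X b) : ℂ) := by
      intro b
      rw [hval' b ((hstab _).2 b.2), ← Nat.card_eq_fintype_card]
      congr 1
      refine Nat.card_congr (Equiv.ofBijective
        (fun y : {y : K ⧸ P.B // Δ.Opp c y ∧ (b : K) • y = y} =>
          (⟨⟨(y : K ⧸ P.B), y.2.1⟩, Subtype.ext y.2.2⟩ : MulAction.fixedBy X b)) ⟨?_, ?_⟩)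
      · intro y z hyz
        have h2 := congrArg (fun t : MulAction.fixedBy X b => ((t : X) : K ⧸ P.B)) hyz
        exact Subtype.ext h2
      · rintro ⟨⟨y, hy⟩, hy2⟩
        exact ⟨⟨y, hy, congrArg Subtype.val hy2⟩, rfl⟩
    rw [Finset.sum_congr rfl fun b _ => h1 b, ← Nat.cast_sum,
      MulAction.sum_card_fixedBy_eq_card_orbits_mul_card_group, Nat.card_eq_fintype_card]
    congr 1
    have h2 : Fintype.card (Quotient (MulAction.orbitRel P.B X)) = 1 := by
      rw [Fintype.card_eq_one_iff]
      refine ⟨Quotient.mk _ ⟨d, hd⟩, fun q => ?_⟩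
      induction q using Quotient.inductionOn with
      | _ y =>
      apply Quotient.sound
      obtain ⟨v, hv, e⟩ := S.trans c d y hd y.2
      exact ⟨⟨v, h.le ((hUc _).1 hv)⟩, Subtype.ext e⟩
    rw [h2, one_mul]
  refine ⟨stf P.B, hθ, ?_, ?_⟩
  · -- invariance
    intro α g
    obtain ⟨R⟩ := (inferInstance : Nonempty (Sylow p K))
    obtain ⟨x, hx⟩ := hsyl R
    obtain ⟨y, hy⟩ := hsyl ((α : MulAut K) • R)
    have hα : ((((α : MulAut K) • R : Sylow p K)) : Subgroup K) = (R : Subgroup K).map α.toMonoidHom := rfl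
    rw [hα, hx] at hy
    have hz : U.map α.toMonoidHom = U.map (MulAut.conj ((α x)⁻¹ * y)).toMonoidHom := by
      have e1 : (MulAut.conj ((α x)⁻¹ * y)).toMonoidHom =
          (MulAut.conj (α x)⁻¹).toMonoidHom.comp (MulAut.conj y).toMonoidHom := by
        rw [map_mul]; rfl
      rw [e1, ← Subgroup.map_map, ← hy, Subgroup.map_map, Subgroup.map_map]
      congr 1
      ext t
      show α t = (α x)⁻¹ * α (x * t * x⁻¹) * ((α x)⁻¹)⁻¹
      rw [map_mul, map_mul, map_inv]
      group
    have hB' : P.B.map α.toMonoidHom = P.B.map (MulAut.conj ((α x)⁻¹ * y)).toMonoidHom := by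
      rw [← hnc, ← hz, ← hnorm]
      exact Subgroup.map_equiv_normalizer_eq U α
    set z := (α x)⁻¹ * y with hzdef
    have e1 : stf (P.B.map α.toMonoidHom) (α g) = stf P.B g := stf_map α P.B g
    have e2 : stf (P.B.map (MulAut.conj z).toMonoidHom) (MulAut.conj z (z⁻¹ * α g * z)) = stf P.B (z⁻¹ * α g * z) :=
      stf_map (MulAut.conj z) P.B _
    have e3 : MulAut.conj z (z⁻¹ * α g * z) = α g := by
      rw [MulAut.conj_apply]; group
    have e4 : stf P.B (z⁻¹ * α g * z) = stf P.B (α g) := by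
      have := stf_conj P.B z⁻¹ (α g)
      rwa [inv_inv] at this
    rw [← e1, hB', ← e4, ← e2, e3]
  · intro R
    obtain ⟨x, hx⟩ := hsyl R
    have hcard : Nat.card R = Nat.card U := by
      have e1 : Nat.card R = Nat.card (R : Subgroup K) := rfl
      rw [e1, hx]
      exact (Nat.card_congr (U.equivMapOfInjective _ (MulAut.conj x).injective).toEquiv).symm
    refine ⟨by rw [hone, hcard], ?_⟩
    rw [hx, hnc]
    let ψ := P.B.equivMapOfInjective (MulAut.conj x).toMonoidHom (MulAut.conj x).injective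
    have e2 : Nat.card ↥(P.B.map (MulAut.conj x).toMonoidHom) = Nat.card P.B := (Nat.card_congr ψ.toEquiv).symm
    rw [e2, ← hsumB, ← finsum_comp_equiv ψ.toEquiv, finsum_eq_sum_of_fintype]
    refine Finset.sum_congr rfl fun b _ => ?_
    have e3 : ((ψ.toEquiv b : ↥(P.B.map (MulAut.conj x).toMonoidHom)) : K) = x * b * x⁻¹ := rfl
    rw [e3, stf_conj]

end main

/-- **The Steinberg character.** -/
theorem exists_isSt {p : ℕ} [Fact p.Prime] {S : Type u} [Group S] [Finite S] (hS : FixBN.HasSplit p S) :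
    ∃ θ : S → ℂ, H638.FD.IsSt p θ := by
  obtain ⟨P, U, -, hU⟩ := hS
  exact exists_isSt_of_split hU

end Cfsg.Agent.H732.StInv
end
end
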