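import Cfsg.Prelude.Def_Classical
import Cfsg.Prelude.Def_Transfer
import Cfsg.Agent.S0280
import Cfsg.Agent.S0283
import Cfsg.Agent.Prune
set_option linter.all false
prune_inst 0x7f00000000000000000000000000000000000000000000000000000000000000000000000000000000000000000000000000000000000000000000000000000000000000000000000000000000000000003fffffffffffffffffffffffffffbeffbdffffffff
open scoped Cfsg.Agent.FastGrp

/-! `PSU₆(2)`: order, simplicity, an elementary abelian subgroup of order 9. -/

set_option autoImplicit false
open Cfsg Matrix

namespace Cfsg.Agent.H732.USix

set_option linter.unusedSectionVars false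

variable {F : Type*} [Field F] [Fintype F]

theorem card_psu6 (hF : Fintype.card F = 4) : Nat.card (PSU 6 F 2) = 9196830720 := by
  have h := S0280.result (F := F) (q := 2) (by rw [hF]; norm_num) 6 (by norm_num)
  norm_num [Finset.prod_range_succ] at h
  have h3 : Nat.gcd 6 3 = 3 := by decide
  omega

end Cfsg.Agent.H732.USix
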