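/-
Special rank one pairs with abelian unipotent subgroups: powers, divisibility, `[A, H] = A` (helper732, section 63).
-/
import Cfsg.Agent.H731.SL2Pair
import Cfsg.Prelude.Def_Transfer
set_option linter.all false

-- part: H732/Special
section
set_option autoImplicit false
open Cfsg
open Cfsg.Agent.H731

namespace Cfsg.Agent.H732

variable {G : Type*} [Group G] {A B : Subgroup G}

/-! ### The partner map `a ↦ b(a)` -/

open Classical in
/-- The partner `b(a)` of `a`: the element `b` of `B#` with `b⁻¹ A b = a⁻¹ B a` (and `1` if there is none). -/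
noncomputable def par (A B : Subgroup G) (a : G) : G :=
  if h : ∃ b : G, b ∈ B ∧ b ≠ 1 ∧ conjBy A b⁻¹ = conjBy B a⁻¹ then h.choose else 1

theorem par_mem (A B : Subgroup G) (a : G) : par A B a ∈ B := by
  unfold par
  split_ifs with h
  · exact h.choose_spec.1
  · exact B.one_mem

theorem par_ne_one (h : IsRankOnePair A B) {a : G} (ha : a ∈ A) (ha1 : a ≠ 1) : par A B a ≠ 1 := by
  have hex : ∃ b : G, b ∈ B ∧ b ≠ 1 ∧ conjBy A b⁻¹ = conjBy B a⁻¹ := (rankOne_partner_unique h ha ha1).exists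
  unfold par
  rw [dif_pos hex]
  exact hex.choose_spec.2.1

theorem par_spec (h : IsRankOnePair A B) {a : G} (ha : a ∈ A) (ha1 : a ≠ 1) :
    conjBy A (par A B a)⁻¹ = conjBy B a⁻¹ := by
  have hex : ∃ b : G, b ∈ B ∧ b ≠ 1 ∧ conjBy A b⁻¹ = conjBy B a⁻¹ := (rankOne_partner_unique h ha ha1).exists
  unfold par
  rw [dif_pos hex]
  exact hex.choose_spec.2.2

theorem par_eq (h : IsRankOnePair A B) {a b : G} (ha : a ∈ A) (ha1 : a ≠ 1) (hb : b ∈ B)
    (hab : conjBy A b⁻¹ = conjBy B a⁻¹) : par A B a = b :=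
  rankOne_existsUnique_right h (par_mem A B a) hb (par_spec h ha ha1) hab

theorem par_one (h : IsRankOnePair A B) : par A B 1 = 1 := by
  unfold par
  rw [dif_neg]
  rintro ⟨b, hb, hb1, hab⟩
  rw [inv_one, conjBy_one, conjBy_inv_eq_iff, conjBy_of_mem hb] at hab
  exact h.ne hab

theorem par_injective (h : IsRankOnePair A B) {a a' : G} (ha : a ∈ A) (ha' : a' ∈ A)
    (haa : par A B a = par A B a') : a = a' := by
  by_cases h1 : a = 1
  · by_cases h2 : a' = 1
    · rw [h1, h2]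
    · rw [h1, par_one h] at haa
      exact absurd haa.symm (par_ne_one h ha' h2)
  · by_cases h2 : a' = 1
    · rw [h2, par_one h] at haa
      exact absurd haa (par_ne_one h ha h1)
    · have h3 := par_spec h ha h1
      have h4 := par_spec h ha' h2
      rw [haa] at h3
      exact inv_inj.1 (rankOne_conj_inj h (A.inv_mem ha) (A.inv_mem ha') (h3.symm.trans h4))

/-- Compatibility of partners with elements normalizing `A` and `B`. -/
theorem par_conj (h : IsRankOnePair A B) {a g : G} (ha : a ∈ A) (hA : conjBy A g = A) (hB : conjBy B g = B) :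
    par A B (g * a * g⁻¹) = g * par A B a * g⁻¹ := by
  by_cases ha1 : a = 1
  · subst ha1
    simp [par_one h]
  · have hga : g * a * g⁻¹ ∈ A := by
      have := conj_mem_conjBy ha g
      rwa [hA] at this
    have hgb : g * par A B a * g⁻¹ ∈ B := by
      have := conj_mem_conjBy (par_mem A B a) g
      rwa [hB] at this
    have hga1 : g * a * g⁻¹ ≠ 1 := by
      intro h1
      apply ha1
      have : a = g⁻¹ * (g * a * g⁻¹) * g := by simp [mul_assoc]
      rw [this, h1]; simp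
    refine par_eq h hga hga1 hgb ?_
    have h2 := congrArg (fun C => conjBy C g) (par_spec h ha ha1)
    simp only [conjBy_conjBy] at h2
    have h3 : conjBy A (g * (par A B a)⁻¹) = conjBy (conjBy A g⁻¹) (g * (par A B a)⁻¹) := by
      rw [(conjBy_inv_eq_iff).2 hA.symm]
    have h4 : conjBy B (g * a⁻¹) = conjBy (conjBy B g⁻¹) (g * a⁻¹) := by
      rw [(conjBy_inv_eq_iff).2 hB.symm]
    rw [h3, h4, conjBy_conjBy, conjBy_conjBy] at h2
    simpa [mul_assoc] using h2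

/-! ### Special pairs -/

/-- `n(a) = a b(a)⁻¹ a`. -/
noncomputable def nn (A B : Subgroup G) (a : G) : G := a * (par A B a)⁻¹ * a

theorem par_braid (hs : IsSpecialRankOnePair A B) {a : G} (ha : a ∈ A) :
    a * (par A B a)⁻¹ * a = (par A B a)⁻¹ * a * (par A B a)⁻¹ := by
  by_cases ha1 : a = 1
  · subst ha1; simp [par_one hs.1]
  · have h := hs.2 a ha ha1 (par A B a) (par_mem A B a) (par_ne_one hs.1 ha ha1) (par_spec hs.1 ha ha1)
    -- b⁻¹ a b = a⁻¹ b⁻¹ a
    have h2 : a * ((par A B a)⁻¹ * a * par A B a) = a * (a⁻¹ * (par A B a)⁻¹ * a) := by rw [h]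
    have h3 : a * (par A B a)⁻¹ * a * par A B a = (par A B a)⁻¹ * a := by
      simpa [mul_assoc] using h2
    rw [← h3]
    simp [mul_assoc]

theorem nn_eq (hs : IsSpecialRankOnePair A B) {a : G} (ha : a ∈ A) :
    nn A B a = (par A B a)⁻¹ * a * (par A B a)⁻¹ := par_braid hs ha

theorem par_eq_nn (a : G) : par A B a = a * (nn A B a)⁻¹ * a := by
  unfold nn; simp [mul_assoc]

/-- `a^{n(a)} = b(a)⁻¹`. -/
theorem nn_conj_self (hs : IsSpecialRankOnePair A B) {a : G} (ha : a ∈ A) :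
    (nn A B a)⁻¹ * a * nn A B a = (par A B a)⁻¹ := by
  have h1 : a * nn A B a = nn A B a * (par A B a)⁻¹ := by
    conv_lhs => rw [nn_eq hs ha]
    conv_rhs => rw [nn]
    simp [mul_assoc]
  rw [mul_assoc, h1, inv_mul_cancel_left]

/-- `b(a)^{n(a)} = a⁻¹`. -/
theorem nn_conj_par (hs : IsSpecialRankOnePair A B) {a : G} (ha : a ∈ A) :
    (nn A B a)⁻¹ * par A B a * nn A B a = a⁻¹ := by
  have h1 : (par A B a)⁻¹ * nn A B a = nn A B a * a := by
    conv_rhs => rw [nn_eq hs ha]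
    conv_lhs => rw [nn]
    simp [mul_assoc]
  have h2 : (nn A B a)⁻¹ * (par A B a)⁻¹ * nn A B a = a := by
    rw [mul_assoc, h1, inv_mul_cancel_left]
  have h3 := congrArg (fun x => x⁻¹) h2
  simpa [mul_assoc] using h3

theorem nn_mem (A B : Subgroup G) {a : G} (ha : a ∈ A) : nn A B a ∈ A ⊔ B :=
  Subgroup.mul_mem _ (Subgroup.mul_mem _ (Subgroup.mem_sup_left ha)
    (Subgroup.mem_sup_right (B.inv_mem (par_mem A B a)))) (Subgroup.mem_sup_left ha)

/-- `A^{n(a)⁻¹} = B`. -/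
theorem conjBy_nn_left (hs : IsSpecialRankOnePair A B) {a : G} (ha : a ∈ A) (ha1 : a ≠ 1) :
    conjBy A (nn A B a) = B := by
  have h1 : nn A B a = a * (par A B a)⁻¹ * a := rfl
  rw [h1, ← conjBy_conjBy, conjBy_of_mem ha, ← conjBy_conjBy, par_spec hs.1 ha ha1, conjBy_conjBy,
    mul_inv_cancel, conjBy_one]

/-- `B^{n(a)} = A`. -/
theorem conjBy_nn_inv_right (hs : IsSpecialRankOnePair A B) {a : G} (ha : a ∈ A) (ha1 : a ≠ 1) :
    conjBy B (nn A B a)⁻¹ = A := by
  rw [conjBy_inv_eq_iff, conjBy_nn_left hs ha ha1]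

/-- `A^{n(a)} = B`. -/
theorem conjBy_nn_inv_left (hs : IsSpecialRankOnePair A B) {a : G} (ha : a ∈ A) (ha1 : a ≠ 1) :
    conjBy A (nn A B a)⁻¹ = B := by
  have hmemA := left_mem_unipotentSubgroups A B
  have hmemB := right_mem_unipotentSubgroups hs.1
  have hD : conjBy A (nn A B a)⁻¹ ∈ unipotentSubgroups A B :=
    conjBy_mem_unipotentSubgroups hmemA (Subgroup.inv_mem _ (nn_mem A B ha))
  by_contra hne
  have hinf := rankOne_inf_of_mem hs.1 hD hmemB hne
  -- both contain `b(a)⁻¹ = a^{n(a)}`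
  have h1 : (par A B a)⁻¹ ∈ conjBy A (nn A B a)⁻¹ := by
    rw [← nn_conj_self hs ha]
    have := conj_mem_conjBy ha (nn A B a)⁻¹
    rwa [inv_inv] at this
  have h2 : (par A B a)⁻¹ ∈ conjBy A (nn A B a)⁻¹ ⊓ B := ⟨h1, B.inv_mem (par_mem A B a)⟩
  rw [hinf, Subgroup.mem_bot, inv_eq_one] at h2
  exact par_ne_one hs.1 ha ha1 h2

/-- `B^{n(a)⁻¹} = A`. -/
theorem conjBy_nn_right (hs : IsSpecialRankOnePair A B) {a : G} (ha : a ∈ A) (ha1 : a ≠ 1) :
    conjBy B (nn A B a) = A := by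
  rw [conjBy_eq_iff, conjBy_nn_inv_left hs ha ha1]

/-- `b(a⁻¹) = b(a)⁻¹`. -/
theorem par_inv (hs : IsSpecialRankOnePair A B) {a : G} (ha : a ∈ A) : par A B a⁻¹ = (par A B a)⁻¹ := by
  by_cases ha1 : a = 1
  · subst ha1; simp [par_one hs.1]
  refine par_eq hs.1 (A.inv_mem ha) (by simpa using ha1) (B.inv_mem (par_mem A B a)) ?_
  rw [inv_inv, inv_inv]
  -- A^{b⁻¹} = B^{a⁻¹}
  have h1 := conjBy_nn_inv_left hs ha ha1
  have h2 : (nn A B a)⁻¹ = a⁻¹ * par A B a * a⁻¹ := by unfold nn; simp [mul_assoc]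
  rw [h2, ← conjBy_conjBy, conjBy_of_mem (A.inv_mem ha), ← conjBy_conjBy, conjBy_inv_eq_iff] at h1
  exact h1

theorem nn_inv (hs : IsSpecialRankOnePair A B) {a : G} (ha : a ∈ A) : nn A B a⁻¹ = (nn A B a)⁻¹ := by
  unfold nn
  rw [par_inv hs ha]
  simp [mul_assoc]

theorem par_conj_nn_mem (hs : IsSpecialRankOnePair A B) {y b : G} (hy : y ∈ A) (hy1 : y ≠ 1) (hb : b ∈ B) :
    (nn A B y)⁻¹ * b * nn A B y ∈ A := by
  have := conj_mem_conjBy hb (nn A B y)⁻¹
  rwa [conjBy_nn_inv_right hs hy hy1, inv_inv] at this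

/-- The basic identity: `b(x) b(y)⁻¹ = b(b(x y⁻¹)^{n(y)} y⁻¹)`. -/
theorem par_identity (hs : IsSpecialRankOnePair A B) {x y : G} (hx : x ∈ A) (hx1 : x ≠ 1) (hy : y ∈ A) (hy1 : y ≠ 1)
    (hxy : x ≠ y) :
    par A B x * (par A B y)⁻¹ = par A B ((nn A B y)⁻¹ * par A B (x * y⁻¹) * nn A B y * y⁻¹) := by
  have hxy1 : x * y⁻¹ ≠ 1 := fun h => hxy (mul_inv_eq_one.1 h)
  have hxyA : x * y⁻¹ ∈ A := A.mul_mem hx (A.inv_mem hy)
  have hw : (nn A B y)⁻¹ * par A B (x * y⁻¹) * nn A B y * y⁻¹ ∈ A :=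
    A.mul_mem (par_conj_nn_mem hs hy hy1 (par_mem A B _)) (A.inv_mem hy)
  have hkey : conjBy A (par A B x * (par A B y)⁻¹)⁻¹ =
      conjBy B ((nn A B y)⁻¹ * par A B (x * y⁻¹) * nn A B y * y⁻¹)⁻¹ := by
    have e1 : (par A B x * (par A B y)⁻¹)⁻¹ = par A B y * (par A B x)⁻¹ := by simp
    rw [e1, ← conjBy_conjBy, par_spec hs.1 hx hx1, conjBy_conjBy]
    have e2 : par A B y * x⁻¹ = y * (nn A B y)⁻¹ * (x * y⁻¹)⁻¹ := by
      conv_lhs => rw [par_eq_nn (A := A) (B := B) y]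
      simp [mul_assoc]
    rw [e2, ← conjBy_conjBy, ← par_spec hs.1 hxyA hxy1, conjBy_conjBy]
    have e3 : ((nn A B y)⁻¹ * par A B (x * y⁻¹) * nn A B y * y⁻¹)⁻¹ =
        y * (nn A B y)⁻¹ * (par A B (x * y⁻¹))⁻¹ * nn A B y := by simp [mul_assoc]
    have e4 : conjBy B (y * (nn A B y)⁻¹ * (par A B (x * y⁻¹))⁻¹ * nn A B y) =
        conjBy A (y * (nn A B y)⁻¹ * (par A B (x * y⁻¹))⁻¹) := by
      rw [← conjBy_conjBy, conjBy_nn_right hs hy hy1]
    rw [e3, e4]
  by_cases hw1 : (nn A B y)⁻¹ * par A B (x * y⁻¹) * nn A B y * y⁻¹ = 1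
  · exfalso
    rw [hw1, inv_one, conjBy_one, conjBy_inv_eq_iff,
      conjBy_of_mem (B.mul_mem (par_mem A B x) (B.inv_mem (par_mem A B y)))] at hkey
    exact hs.1.ne hkey
  · exact (par_eq hs.1 hw hw1 (B.mul_mem (par_mem A B x) (B.inv_mem (par_mem A B y))) hkey).symm

end Cfsg.Agent.H732
end

-- part: H732/SpecialAb
section
set_option autoImplicit false
open Cfsg
open Cfsg.Agent.H731

namespace Cfsg.Agent.H732

variable {G : Type*} [Group G] {A B : Subgroup G}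

theorem comm_of_isMulCommutative (hA : IsMulCommutative A) {a b : G} (ha : a ∈ A) (hb : b ∈ A) : a * b = b * a := by
  have := hA.is_comm.comm ⟨a, ha⟩ ⟨b, hb⟩
  exact congrArg Subtype.val this

theorem mul_pow_of_comm (hA : IsMulCommutative A) {a b : G} (ha : a ∈ A) (hb : b ∈ A) (n : ℕ) :
    (a * b) ^ n = a ^ n * b ^ n :=
  (show Commute a b from comm_of_isMulCommutative hA ha hb).mul_pow n

theorem conj_pow' (g b : G) (n : ℕ) : (g⁻¹ * b * g) ^ n = g⁻¹ * b ^ n * g := by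
  have := conj_pow (a := g⁻¹) (b := b) (i := n)
  simpa using this

/-- The statement `P(n)`: `b(z^n)^n = b(z)` whenever `z^n ≠ 1`. -/
def PowStmt (A B : Subgroup G) (n : ℕ) : Prop := ∀ z ∈ A, z ^ n ≠ 1 → par A B (z ^ n) ^ n = par A B z

/-- `P(n)` implies that the `n`-th power map on `A` is trivial or injective. -/
theorem powStmt_injective (h : IsRankOnePair A B) (hA : IsMulCommutative A) {n : ℕ} (hP : PowStmt A B n)
    (hex : ∃ z ∈ A, z ^ n ≠ 1) : ∀ z ∈ A, z ^ n = 1 → z = 1 := by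
  obtain ⟨w, hw, hw1⟩ := hex
  intro z hz hz1
  have h1 : (w * z) ^ n = w ^ n := by rw [mul_pow_of_comm hA hw hz, hz1, mul_one]
  have h2 := hP (w * z) (A.mul_mem hw hz) (by rw [h1]; exact hw1)
  rw [h1, hP w hw hw1] at h2
  have h3 := par_injective h hw (A.mul_mem hw hz) h2
  have h4 : w * 1 = w * z := by rw [mul_one]; exact h3
  exact (mul_left_cancel h4).symm

theorem pow_eq_one_right (h : IsRankOnePair A B) {n : ℕ} (hn : ∀ z ∈ A, z ^ n = 1) : ∀ b ∈ B, b ^ n = 1 := by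
  intro b hb
  obtain ⟨x, -, hx⟩ := right_mem_unipotentSubgroups h
  rw [hx, mem_conjBy] at hb
  have h1 := hn _ hb
  rw [conj_pow'] at h1
  have h2 : x * (x⁻¹ * b ^ n * x) * x⁻¹ = 1 := by rw [h1]; simp
  simpa [mul_assoc] using h2

theorem powStmt_all (hs : IsSpecialRankOnePair A B) (hA : IsMulCommutative A) (hB : IsMulCommutative B) (n : ℕ) :
    PowStmt A B (n + 1) := by
  induction n with
  | zero => intro z _ _; simp
  | succ n ih =>
    intro x hx hx1
    set m := n + 1 with hm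
    -- x ^ (m+1) ≠ 1
    by_cases hcase : ∀ z ∈ A, z ^ m = 1
    · have hB1 := pow_eq_one_right hs.1 hcase
      have h1 : x ^ (m + 1) = x := by rw [pow_succ, hcase x hx, one_mul]
      rw [h1, pow_succ, hB1 _ (par_mem A B x), one_mul]
    · push Not at hcase
      have hinj := powStmt_injective hs.1 hA ih hcase
      have hx0 : x ≠ 1 := fun h => hx1 (by rw [h, one_pow])
      have hxm : x ^ m ≠ 1 := fun h => hx0 (hinj x hx h)
      have hxmA : x ^ m ∈ A := A.pow_mem hx m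
      have hxm1A : x ^ (m + 1) ∈ A := A.pow_mem hx _
      have hxx : x ^ (m * (m + 1)) ≠ 1 := by
        intro h
        apply hx1
        apply hinj _ hxm1A
        rw [← pow_mul, mul_comm (m + 1) m]; exact h
      -- y = (x^m)⁻¹
      obtain ⟨y, hy⟩ : ∃ y, y = (x ^ m)⁻¹ := ⟨_, rfl⟩
      have hyA : y ∈ A := hy ▸ A.inv_mem hxmA
      have hy1 : y ≠ 1 := by rw [hy]; simpa using hxm
      have hym : y ^ m ≠ 1 := fun h => hy1 (hinj y hyA h)
      have hymA : y ^ m ∈ A := A.pow_mem hyA _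
      have hym1A : y ^ (m + 1) ∈ A := A.pow_mem hyA _
      have hym1 : y ^ (m + 1) ≠ 1 := by
        rw [hy, inv_pow, ← pow_mul]; simpa using hxx
      have hne : y ^ (m + 1) ≠ y := by
        intro h
        apply hym
        rw [pow_succ] at h
        exact mul_eq_right.1 h
      have hid := par_identity hs hym1A hym1 hyA hy1 hne
      have e1 : y ^ (m + 1) * y⁻¹ = y ^ m := by rw [pow_succ, mul_inv_cancel_right]
      rw [e1] at hid
      -- u = b(y^m)^{n(y)}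
      have hu : (nn A B y)⁻¹ * par A B (y ^ m) * nn A B y = x := by
        have huA : (nn A B y)⁻¹ * par A B (y ^ m) * nn A B y ∈ A :=
          par_conj_nn_mem hs hyA hy1 (par_mem A B _)
        have hum : ((nn A B y)⁻¹ * par A B (y ^ m) * nn A B y) ^ m = x ^ m := by
          rw [conj_pow', ih y hyA hym, nn_conj_par hs hyA, hy, inv_inv]
        have h3 : ((nn A B y)⁻¹ * par A B (y ^ m) * nn A B y * x⁻¹) ^ m = 1 := by
          rw [mul_pow_of_comm hA huA (A.inv_mem hx), hum, inv_pow, mul_inv_cancel]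
        exact mul_inv_eq_one.1 (hinj _ (A.mul_mem huA (A.inv_mem hx)) h3)
      rw [hu] at hid
      have e2 : x * y⁻¹ = x ^ (m + 1) := by rw [hy, inv_inv, pow_succ' x m]
      rw [e2] at hid
      -- hid : b(y^{m+1}) b(y)⁻¹ = b(x^{m+1})
      have e3 : par A B (y ^ (m + 1)) = (par A B ((x ^ (m + 1)) ^ m))⁻¹ := by
        rw [← par_inv hs (A.pow_mem hxm1A _)]
        congr 1
        rw [hy, inv_pow, ← pow_mul, ← pow_mul, mul_comm]
      have e4 : par A B y = (par A B (x ^ m))⁻¹ := by rw [hy, par_inv hs hxmA]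
      rw [e3, e4, inv_inv] at hid
      have hb1 : par A B ((x ^ (m + 1)) ^ m) ∈ B := par_mem A B _
      have hb2 : par A B (x ^ m) ∈ B := par_mem A B _
      have h5 : ((par A B ((x ^ (m + 1)) ^ m))⁻¹ * par A B (x ^ m)) ^ m = par A B (x ^ (m + 1)) ^ m := by rw [hid]
      have h6 := ih (x ^ (m + 1)) hxm1A (by rw [← pow_mul, mul_comm]; exact hxx)
      have h7 := ih x hx hxm
      rw [mul_pow_of_comm hB (B.inv_mem hb1) hb2, inv_pow, h6, h7] at h5
      rw [pow_succ', ← h5]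
      simp

theorem par_pow (hs : IsSpecialRankOnePair A B) (hA : IsMulCommutative A) (hB : IsMulCommutative B) {n : ℕ}
    (hn : n ≠ 0) {z : G} (hz : z ∈ A) (hz1 : z ^ n ≠ 1) : par A B (z ^ n) ^ n = par A B z := by
  obtain ⟨m, rfl⟩ := Nat.exists_eq_succ_of_ne_zero hn
  exact powStmt_all hs hA hB m z hz hz1

/-- Each power map on `A` is trivial or injective. -/
theorem pow_injective (hs : IsSpecialRankOnePair A B) (hA : IsMulCommutative A) (hB : IsMulCommutative B) {n : ℕ}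
    (hn : n ≠ 0) (hex : ∃ z ∈ A, z ^ n ≠ 1) : ∀ z ∈ A, z ^ n = 1 → z = 1 :=
  powStmt_injective hs.1 hA (fun _ hz hz1 => par_pow hs hA hB hn hz hz1) hex

/-- `A` is elementary abelian or torsion-free and divisible. -/
theorem elementary_or_divisible (hs : IsSpecialRankOnePair A B) (hA : IsMulCommutative A) (hB : IsMulCommutative B) :
    (∃ p : ℕ, p.Prime ∧ Cfsg.IsElementaryAbelian p A) ∨
    ((∀ a ∈ A, a ≠ 1 → ¬ IsOfFinOrder a) ∧ ∀ a ∈ A, ∀ n : ℕ, 0 < n → ∃ c ∈ A, c ^ n = a) := by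
  by_cases hp : ∃ p : ℕ, p.Prime ∧ Cfsg.IsElementaryAbelian p A
  · exact Or.inl hp
  right
  have hinj : ∀ p : ℕ, p.Prime → ∀ z ∈ A, z ^ p = 1 → z = 1 := by
    intro p hpp
    apply pow_injective hs hA hB hpp.ne_zero
    by_contra hcon
    push Not at hcon
    exact hp ⟨p, hpp, hA, hcon⟩
  have htf : ∀ a ∈ A, a ≠ 1 → ¬ IsOfFinOrder a := by
    intro a ha ha1 hfin
    have ho : orderOf a ≠ 1 := fun h => ha1 (orderOf_eq_one_iff.1 h)
    obtain ⟨p, hpp, hdvd⟩ := Nat.exists_prime_and_dvd ho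
    obtain ⟨m, hm⟩ := hdvd
    have hpos : 0 < orderOf a := hfin.orderOf_pos
    have h1 : a ^ m = 1 := by
      apply hinj p hpp _ (A.pow_mem ha m)
      rw [← pow_mul, mul_comm, ← hm, pow_orderOf_eq_one]
    have h2 := orderOf_dvd_of_pow_eq_one h1
    rw [hm] at h2
    have hm0 : 0 < m := by
      rcases Nat.eq_zero_or_pos m with h0 | h0
      · rw [h0, mul_zero] at hm; omega
      · exact h0
    have h3 := Nat.le_of_dvd hm0 h2
    have h4 : 2 * m ≤ p * m := Nat.mul_le_mul_right m hpp.two_le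
    omega
  refine ⟨htf, ?_⟩
  intro a ha n hn
  by_cases ha1 : a = 1
  · exact ⟨1, A.one_mem, by rw [ha1, one_pow]⟩
  have han : a ^ n ≠ 1 := fun h => htf a ha ha1 (isOfFinOrder_iff_pow_eq_one.2 ⟨n, hn, h⟩)
  refine ⟨(nn A B a)⁻¹ * (par A B (a ^ n))⁻¹ * nn A B a,
    par_conj_nn_mem hs ha ha1 (B.inv_mem (par_mem A B _)), ?_⟩
  rw [conj_pow', inv_pow, par_pow hs hA hB hn.ne' ha han]
  have h1 := congrArg (fun x => x⁻¹) (nn_conj_par hs ha)
  simpa [mul_assoc] using h1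

/-! ### `[A, H] = A` -/

theorem diag_conj_left {h : G} (hh : h ∈ rankOneDiagonal A B) : conjBy A h = A :=
  mem_normalizer_iff_conjBy.1 hh.1.2

theorem diag_conj_right {h : G} (hh : h ∈ rankOneDiagonal A B) : conjBy B h = B :=
  mem_normalizer_iff_conjBy.1 hh.2

theorem mem_diag {h : G} (hX : h ∈ A ⊔ B) (hA : conjBy A h = A) (hB : conjBy B h = B) : h ∈ rankOneDiagonal A B :=
  ⟨⟨hX, mem_normalizer_iff_conjBy.2 hA⟩, mem_normalizer_iff_conjBy.2 hB⟩

theorem nn_nn_mem_diag (hs : IsSpecialRankOnePair A B) {x y : G} (hx : x ∈ A) (hx1 : x ≠ 1) (hy : y ∈ A)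
    (hy1 : y ≠ 1) : (nn A B x)⁻¹ * nn A B y ∈ rankOneDiagonal A B := by
  refine mem_diag (Subgroup.mul_mem _ (Subgroup.inv_mem _ (nn_mem A B hx)) (nn_mem A B hy)) ?_ ?_
  · rw [← conjBy_conjBy, conjBy_nn_left hs hy hy1, conjBy_nn_inv_right hs hx hx1]
  · rw [← conjBy_conjBy, conjBy_nn_right hs hy hy1, conjBy_nn_inv_left hs hx hx1]

theorem commDiag_le : ⁅A, rankOneDiagonal A B⁆ ≤ A := by
  rw [Subgroup.commutator_le]
  intro a ha h hh
  rw [commutatorElement_def]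
  have h1 : h * a⁻¹ * h⁻¹ ∈ A := by
    have := conj_mem_conjBy (A.inv_mem ha) h
    rwa [diag_conj_left hh] at this
  have := A.mul_mem ha h1
  simpa [mul_assoc] using this

/-- `h⁻¹ x⁻¹ h ≡ x⁻¹` modulo `[A, H]`. -/
theorem conj_diag_congr {x h : G} (hx : x ∈ A) (hh : h ∈ rankOneDiagonal A B) :
    x * (h⁻¹ * x⁻¹ * h) ∈ ⁅A, rankOneDiagonal A B⁆ := by
  have := Subgroup.commutator_mem_commutator hx (Subgroup.inv_mem _ hh)
  rw [commutatorElement_def, inv_inv] at this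
  simpa [mul_assoc] using this

/-- `b(x)^{n(y)} ≡ x⁻¹` modulo `[A, H]`. -/
theorem par_nn_congr (hs : IsSpecialRankOnePair A B) {x y : G} (hx : x ∈ A) (hy : y ∈ A)
    (hy1 : y ≠ 1) : x * ((nn A B y)⁻¹ * par A B x * nn A B y) ∈ ⁅A, rankOneDiagonal A B⁆ := by
  by_cases hx1 : x = 1
  · subst hx1
    simp [par_one hs.1]
  have h1 := conj_diag_congr hx (nn_nn_mem_diag hs hx hx1 hy hy1)
  have h2 : ((nn A B x)⁻¹ * nn A B y)⁻¹ * x⁻¹ * ((nn A B x)⁻¹ * nn A B y) =
      (nn A B y)⁻¹ * par A B x * nn A B y := by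
    rw [← nn_conj_par hs hx]
    simp [mul_assoc]
  rwa [h2] at h1

theorem comm_aux0 {M : Type*} [AddCommGroup M] (x y X Y Z : M) :
    y + -(x + x) = (Z + -y + (X + -Y)) + -(x + X) + (y + Y) + -(x + -y + Z) := by abel

theorem comm_aux (hA : IsMulCommutative A) {x y X Y Z : G} (hx : x ∈ A) (hy : y ∈ A) (hX : X ∈ A) (hY : Y ∈ A)
    (hZ : Z ∈ A) :
    y * (x * x)⁻¹ = (Z * y⁻¹ * (X * Y⁻¹)) * (x * X)⁻¹ * (y * Y) * (x * y⁻¹ * Z)⁻¹ := by
  let _ : CommGroup A := { (inferInstance : Group A) with mul_comm := hA.is_comm.comm }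
  have := comm_aux0 (M := Additive A) (Additive.ofMul ⟨x, hx⟩) (Additive.ofMul ⟨y, hy⟩) (Additive.ofMul ⟨X, hX⟩)
    (Additive.ofMul ⟨Y, hY⟩) (Additive.ofMul ⟨Z, hZ⟩)
  exact congrArg (fun t : Additive A => ((Additive.toMul t : A) : G)) this

/-- `y ≡ x²` modulo `[A, H]` for different `x, y ∈ A#`. -/
theorem key_congr (hs : IsSpecialRankOnePair A B) (hA : IsMulCommutative A) {x y : G} (hx : x ∈ A) (hx1 : x ≠ 1)
    (hy : y ∈ A) (hy1 : y ≠ 1) (hxy : x ≠ y) : y * (x * x)⁻¹ ∈ ⁅A, rankOneDiagonal A B⁆ := by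
  set V := ⁅A, rankOneDiagonal A B⁆ with hV
  have hVA : V ≤ A := commDiag_le
  have hid := par_identity hs hx hx1 hy hy1 hxy
  set n := nn A B y with hn
  set w := n⁻¹ * par A B (x * y⁻¹) * n * y⁻¹ with hw
  have hxyA : x * y⁻¹ ∈ A := A.mul_mem hx (A.inv_mem hy)
  have hc1 : n⁻¹ * par A B (x * y⁻¹) * n ∈ A := par_conj_nn_mem hs hy hy1 (par_mem A B _)
  have hwA : w ∈ A := A.mul_mem hc1 (A.inv_mem hy)
  have hpx : n⁻¹ * par A B x * n ∈ A := par_conj_nn_mem hs hy hy1 (par_mem A B _)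
  have hpy : n⁻¹ * par A B y * n ∈ A := par_conj_nn_mem hs hy hy1 (par_mem A B _)
  have hpw : n⁻¹ * par A B w * n ∈ A := par_conj_nn_mem hs hy hy1 (par_mem A B _)
  -- work in the commutative group A, modulo V
  have c1 := par_nn_congr hs hx hy hy1
  have c2 := par_nn_congr hs hy hy hy1
  have c3 := par_nn_congr hs hwA hy hy1
  have c4 := par_nn_congr hs hxyA hy hy1
  rw [← hn] at c1 c2 c3 c4
  have hid2 : (n⁻¹ * par A B x * n) * (n⁻¹ * par A B y * n)⁻¹ = n⁻¹ * par A B w * n := by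
    rw [← hid]; simp [mul_assoc]
  generalize hX : n⁻¹ * par A B x * n = X at *
  generalize hY : n⁻¹ * par A B y * n = Y at *
  generalize hW : n⁻¹ * par A B w * n = W at *
  generalize hZ : n⁻¹ * par A B (x * y⁻¹) * n = Z at *
  -- c1 : x X ∈ V, c2 : y Y ∈ V, c3 : w W ∈ V, c4 : x y⁻¹ Z ∈ V; hid2 : X Y⁻¹ = W, w = Z y⁻¹
  have hfin : y * (x * x)⁻¹ = (w * W) * (x * X)⁻¹ * (y * Y) * (x * y⁻¹ * Z)⁻¹ := by
    have hw' : w = Z * y⁻¹ := hw
    rw [hw', ← hid2]
    exact comm_aux hA hx hy hpx hpy hc1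
  rw [hfin]
  exact V.mul_mem (V.mul_mem (V.mul_mem c3 (V.inv_mem c1)) c2) (V.inv_mem c4)

theorem exists_avoid {α : Type*} (h : 3 < ENat.card α) (p q r : α) : ∃ x : α, x ≠ p ∧ x ≠ q ∧ x ≠ r := by
  by_contra hcon
  push Not at hcon
  have h1 : (Set.univ : Set α) ⊆ {p, q, r} := by
    intro x _
    by_cases h1 : x = p
    · simp [h1]
    · by_cases h2 : x = q
      · simp [h2]
      · simp [hcon x h1 h2]
  have h2 : ENat.card α ≤ 3 := by
    rw [← Set.encard_univ]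
    refine (Set.encard_le_encard h1).trans ?_
    refine (Set.encard_insert_le _ _).trans ?_
    refine (add_le_add_left (Set.encard_insert_le _ _) _).trans ?_
    rw [Set.encard_singleton]
    norm_num
  exact absurd h (not_lt.2 h2)

/-- If `|A| > 3` then `[A, H] = A`. -/
theorem commDiag_eq (hs : IsSpecialRankOnePair A B) (hA : IsMulCommutative A) (hcard : 3 < ENat.card A) :
    ⁅A, rankOneDiagonal A B⁆ = A := by
  refine le_antisymm commDiag_le ?_
  intro u hu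
  by_cases hu1 : u = 1
  · rw [hu1]; exact Subgroup.one_mem _
  obtain ⟨⟨y, hy⟩, hy1, hy2, -⟩ := exists_avoid hcard 1 ⟨u⁻¹, A.inv_mem hu⟩ 1
  have hy1' : y ≠ 1 := fun h => hy1 (Subtype.ext h)
  have hy2' : y ≠ u⁻¹ := fun h => hy2 (Subtype.ext h)
  have hyu : y * u ∈ A := A.mul_mem hy hu
  have hyu1 : y * u ≠ 1 := fun h => hy2' (eq_inv_of_mul_eq_one_left h)
  obtain ⟨⟨x, hx⟩, hx1, hx2, hx3⟩ := exists_avoid hcard 1 ⟨y, hy⟩ ⟨y * u, hyu⟩
  have hx1' : x ≠ 1 := fun h => hx1 (Subtype.ext h)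
  have hx2' : x ≠ y := fun h => hx2 (Subtype.ext h)
  have hx3' : x ≠ y * u := fun h => hx3 (Subtype.ext h)
  have h1 := key_congr hs hA hx hx1' hy hy1' hx2'
  have h2 := key_congr hs hA hx hx1' hyu hyu1 hx3'
  have h3 := Subgroup.mul_mem _ (Subgroup.inv_mem _ h1) h2
  have h4 : (y * (x * x)⁻¹)⁻¹ * (y * u * (x * x)⁻¹) = u := by
    have hc : u * (x * x)⁻¹ = (x * x)⁻¹ * u :=
      comm_of_isMulCommutative hA hu (A.inv_mem (A.mul_mem hx hx))
    rw [mul_inv_rev, inv_inv, mul_assoc y u, hc]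
    simp [mul_assoc]
  rwa [h4] at h3

/-- A special rank one group with abelian unipotent subgroups and `|A| > 3` is perfect. -/
theorem commutator_eq_top (h : IsRankOneGroup G A B) (hs : IsSpecialRankOnePair A B) (hA : IsMulCommutative A)
    (hcard : 3 < ENat.card A) : commutator G = ⊤ := by
  have h1 : A ≤ commutator G := by
    rw [← commDiag_eq hs hA hcard, commutator_def]
    exact Subgroup.commutator_mono le_top le_top
  have h2 : B ≤ commutator G := by
    obtain ⟨x, -, hx⟩ := right_mem_unipotentSubgroups h.2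
    rw [hx]
    intro b hb
    rw [mem_conjBy] at hb
    have h3 := (inferInstance : (commutator G).Normal).conj_mem _ (h1 hb) x
    simpa [mul_assoc] using h3
  rw [eq_top_iff, ← h.1]
  exact sup_le h1 h2

end Cfsg.Agent.H732
end
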