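import Cfsg.Agent.H33.IM
import Cfsg.Agent.H671.H5Facts
import Cfsg.Agent.H678.SuzGraph
import Cfsg.Agent.H438.SzMax
import Cfsg.Agent.Prune
set_option linter.all false
prune_inst 0x7f00000000000000000000000000000000000000000000000000000000000000000000000000000000000000000000000000000000000000000000000000000000000000000000000000000000000000003fffffffffffffffffffffffffffbeffbdffffffff
open scoped Cfsg.Agent.FastGrp

/-!
# The character degrees of the Suzuki groups: Itô-Michler, the degree graph (helper732)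
-/

set_option autoImplicit false

namespace Cfsg.Agent.H732.DegSz

open Cfsg Cfsg.Agent.H671.H5

universe u

/-- numerical form of `IsoSuzuki`: degree primes and edges -/
theorem graph {S : Type u} [Group S] (h : Lie.IsoSuzuki S) :
    ∃ m : ℕ, 1 ≤ m ∧ Nat.card S = (2 ^ (2 * m + 1)) ^ 2 * (2 ^ (2 * m + 1) - 1) * ((2 ^ (2 * m + 1)) ^ 2 + 1) ∧
    degreePrimes S = {r : ℕ | r.Prime ∧ (r = 2 ∨ r ∣ (2 ^ (2 * m + 1) - 1) * ((2 ^ (2 * m + 1)) ^ 2 + 1))} ∧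
      ∀ r s : ℕ, (degreeGraph S).Adj r s ↔ (r ≠ s ∧ r.Prime ∧ s.Prime ∧
        ((r ∣ (2 ^ (2 * m + 1) - 1) * ((2 ^ (2 * m + 1)) ^ 2 + 1) ∧ s ∣ (2 ^ (2 * m + 1) - 1) * ((2 ^ (2 * m + 1)) ^ 2 + 1)) ∨
          (r = 2 ∧ s ∣ 2 ^ (2 * m + 1) - 1) ∨ (s = 2 ∧ r ∣ 2 ^ (2 * m + 1) - 1))) := by
  obtain ⟨F, _, _, m, hm, hF, he⟩ := h
  obtain ⟨h1, h2⟩ := H678.SuzGraph.main hm hF rfl he
  refine ⟨m, hm, ?_, h1, h2⟩
  obtain ⟨e⟩ := he
  rw [Nat.card_congr e.toEquiv, H438.SzMax.card_sz hF]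

theorem exists_prime_dvd_pred {m : ℕ} (hm : 1 ≤ m) : ∃ p, p.Prime ∧ p ≠ 2 ∧ p ∣ 2 ^ (2 * m + 1) - 1 := by
  have h8 : 2 ^ 3 ≤ 2 ^ (2 * m + 1) := Nat.pow_le_pow_right (by norm_num) (by omega)
  have hne : 2 ^ (2 * m + 1) - 1 ≠ 1 := by omega
  obtain ⟨p, hp, hd⟩ := Nat.exists_prime_and_dvd hne
  refine ⟨p, hp, ?_, hd⟩
  rintro rfl
  have h2 : 2 ∣ 2 ^ (2 * m + 1) := dvd_pow_self 2 (by omega)
  omega

/-- **Itô-Michler.** -/
theorem im (S : Type u) [Group S] [Finite S] (h : Lie.IsoSuzuki S) (_hs : IsSimpleGroup S) {p : ℕ} [hp : Fact p.Prime]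
    (hd : p ∣ Nat.card S) : H33.IM p S := by
  obtain ⟨m, hm, hc, h1, -⟩ := graph h
  have h3 : p ∈ degreePrimes S := by
    rw [h1]
    refine ⟨hp.out, ?_⟩
    rw [hc] at hd
    rcases (Nat.Prime.dvd_mul hp.out).1 hd with h4 | h4
    · rcases (Nat.Prime.dvd_mul hp.out).1 h4 with h5 | h5
      · left
        exact (Nat.prime_dvd_prime_iff_eq hp.out Nat.prime_two).1
          (hp.out.dvd_of_dvd_pow (hp.out.dvd_of_dvd_pow h5))
      · right; exact dvd_mul_of_dvd_left h5 _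
    · right; exact dvd_mul_of_dvd_right h4 _
  exact (mem_degreePrimes.1 h3).2

/-- among three primes two are adjacent -/
theorem ind (S : Type u) [Group S] (h : Lie.IsoSuzuki S) :
    ∀ p ∈ degreePrimes S, ∀ q ∈ degreePrimes S, ∀ r ∈ degreePrimes S,
    p ≠ q → q ≠ r → p ≠ r → Adj p q S ∨ Adj q r S ∨ Adj p r S := by
  obtain ⟨m, hm, hc, h1, h2⟩ := graph h
  intro p hp q hq r hr hpq hqr hpr
  rw [h1] at hp hq hr
  obtain ⟨hp1, hp2⟩ := hp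
  obtain ⟨hq1, hq2⟩ := hq
  obtain ⟨hr1, hr2⟩ := hr
  unfold Adj
  rw [h2, h2, h2]
  rcases hp2 with rfl | hp2
  · right; left
    exact ⟨hqr, hq1, hr1, Or.inl ⟨hq2.resolve_left (fun h => hpq h.symm), hr2.resolve_left (fun h => hpr h.symm)⟩⟩
  · rcases hq2 with rfl | hq2
    · right; right
      exact ⟨hpr, hp1, hr1, Or.inl ⟨hp2, hr2.resolve_left (fun h => hqr h.symm)⟩⟩
    · left
      exact ⟨hpq, hp1, hq1, Or.inl ⟨hp2, hq2⟩⟩

theorem exists_three {m : ℕ} (hm : 1 ≤ m) : ∃ p q r : ℕ, p.Prime ∧ q.Prime ∧ r.Prime ∧ p ≠ q ∧ q ≠ r ∧ p ≠ r ∧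
    p ∣ (2 ^ (2 * m + 1) - 1) * ((2 ^ (2 * m + 1)) ^ 2 + 1) ∧
    q ∣ (2 ^ (2 * m + 1) - 1) * ((2 ^ (2 * m + 1)) ^ 2 + 1) ∧
    r ∣ (2 ^ (2 * m + 1) - 1) * ((2 ^ (2 * m + 1)) ^ 2 + 1) := by
  obtain ⟨k, hk⟩ : ∃ k, k = 2 ^ m := ⟨_, rfl⟩
  have hk2 : 2 ≤ k := by
    rw [hk]
    calc 2 = 2 ^ 1 := by norm_num
      _ ≤ 2 ^ m := Nat.pow_le_pow_right (by norm_num) hm
  have hq : 2 ^ (2 * m + 1) = 2 * k ^ 2 := by rw [hk, ← pow_mul, pow_succ]; ring_nf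
  obtain ⟨a, ha⟩ : ∃ a, a = 2 * k ^ 2 + 2 * k + 1 := ⟨_, rfl⟩
  obtain ⟨b, hb⟩ : ∃ b, b + 2 * k = 2 * k ^ 2 + 1 := ⟨2 * k ^ 2 + 1 - 2 * k, by
    have : 2 * k ≤ 2 * k ^ 2 := by nlinarith
    omega⟩
  have hab : (2 * k ^ 2) ^ 2 + 1 = a * b := by
    have h1 : a * (b + 2 * k) = a * (2 * k ^ 2 + 1) := by rw [hb]
    have h2 : a * (2 * k) + ((2 * k ^ 2) ^ 2 + 1) = a * (2 * k ^ 2 + 1) := by rw [ha]; ring
    have h3 : a * (b + 2 * k) = a * (2 * k) + a * b := by ring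
    omega
  have hbgt : 1 < b := by
    have : 2 * k + 1 < 2 * k ^ 2 + 1 := by nlinarith
    omega
  have hagt : 1 < a := by rw [ha]; omega
  obtain ⟨p, hp, -, hpd⟩ := exists_prime_dvd_pred hm
  obtain ⟨q, hq1, hqd⟩ := Nat.exists_prime_and_dvd (n := a) (by omega)
  obtain ⟨r, hr1, hrd⟩ := Nat.exists_prime_and_dvd (n := b) (by omega)
  rw [hq] at hpd ⊢
  have hodd : ∀ s : ℕ, s.Prime → s ∣ a * b → s ≠ 2 := by
    rintro s hs h rfl
    rw [← hab] at h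
    have h3 : 2 ∣ (2 * k ^ 2) ^ 2 := Dvd.dvd.pow (Dvd.intro _ rfl) (by norm_num)
    omega
  have hcop : ∀ s : ℕ, s.Prime → s ∣ 2 * k ^ 2 - 1 → s ∣ a * b → False := by
    intro s hs h1 h2
    have h3 : s ∣ (2 * k ^ 2 - 1) * (2 * k ^ 2 + 1) := dvd_mul_of_dvd_left h1 _
    have h4 : (2 * k ^ 2 - 1) * (2 * k ^ 2 + 1) + 2 = a * b := by
      rw [← hab]
      obtain ⟨c, hc⟩ : ∃ c, 2 * k ^ 2 = c + 1 := ⟨2 * k ^ 2 - 1, by
        have : 1 ≤ k ^ 2 := Nat.one_le_pow _ _ (by omega)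
        omega⟩
      rw [hc]
      simp only [Nat.add_sub_cancel]
      ring
    rw [← h4] at h2
    have h5 := (Nat.dvd_add_right h3).1 h2
    have h6 := (Nat.prime_dvd_prime_iff_eq hs Nat.prime_two).1 h5
    rw [h4] at h2
    exact hodd s hs h2 h6
  refine ⟨p, q, r, hp, hq1, hr1, ?_, ?_, ?_, dvd_mul_of_dvd_left hpd _, ?_, ?_⟩
  · rintro rfl
    exact hcop p hp hpd (hqd.mul_right b)
  · rintro rfl
    have h3 : q ∣ b + 4 * k := by
      have : a = b + 4 * k := by omega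
      rwa [← this]
    have h4 : q ∣ 4 * k := (Nat.dvd_add_right hrd).1 h3
    have h5 : q ∣ 2 ^ 2 * 2 ^ m := by rw [← hk]; exact h4
    rw [← pow_add] at h5
    exact hodd q hq1 (hqd.mul_right b) ((Nat.prime_dvd_prime_iff_eq hq1 Nat.prime_two).1 (hq1.dvd_of_dvd_pow h5))
  · rintro rfl
    exact hcop p hp hpd (hrd.mul_left a)
  · rw [hab]; exact dvd_mul_of_dvd_right (hqd.mul_right b) _
  · rw [hab]; exact dvd_mul_of_dvd_right (hrd.mul_left a) _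

/-- the degree graph has a triangle -/
theorem tri (S : Type u) [Group S] (h : Lie.IsoSuzuki S) : ∃ p q r : ℕ, Adj p q S ∧ Adj q r S ∧ Adj p r S := by
  obtain ⟨m, hm, hc, h1, h2⟩ := graph h
  obtain ⟨p, q, r, hp, hq, hr, e1, e2, e3, d1, d2, d3⟩ := exists_three hm
  refine ⟨p, q, r, ?_, ?_, ?_⟩
  · unfold Adj; rw [h2]; exact ⟨e1, hp, hq, Or.inl ⟨d1, d2⟩⟩
  · unfold Adj; rw [h2]; exact ⟨e2, hq, hr, Or.inl ⟨d2, d3⟩⟩
  · unfold Adj; rw [h2]; exact ⟨e3, hp, hr, Or.inl ⟨d1, d3⟩⟩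

/-- the degree graph is connected -/
theorem conn (S : Type u) [Group S] (h : Lie.IsoSuzuki S) :
    ((degreeGraph S).induce (degreePrimes S)).Connected := by
  obtain ⟨m, hm, hc, h1, h2⟩ := graph h
  obtain ⟨p, hp, hp2, hpd⟩ := exists_prime_dvd_pred hm
  have hpm : p ∈ degreePrimes S := by rw [h1]; exact ⟨hp, Or.inr (dvd_mul_of_dvd_left hpd _)⟩
  have key : ∀ r : ↥(degreePrimes S), ((degreeGraph S).induce (degreePrimes S)).Reachable ⟨p, hpm⟩ r := by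
    rintro ⟨r, hr⟩
    have hr' := hr
    rw [h1] at hr'
    obtain ⟨hr1, hr2⟩ := hr'
    by_cases hpr : p = r
    · subst hpr
      exact SimpleGraph.Reachable.refl _
    · apply SimpleGraph.Adj.reachable
      rw [SimpleGraph.comap_adj]
      show (degreeGraph S).Adj p r
      rw [h2]
      refine ⟨hpr, hp, hr1, ?_⟩
      rcases hr2 with rfl | hr2
      · right; right; exact ⟨rfl, hpd⟩
      · left; exact ⟨dvd_mul_of_dvd_left hpd _, hr2⟩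
  have : Nonempty ↥(degreePrimes S) := ⟨⟨p, hpm⟩⟩
  exact ⟨fun a b => (key a).symm.trans (key b)⟩

end Cfsg.Agent.H732.DegSz
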