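import Cfsg.Agent.H710.Cuspidal
import Cfsg.Agent.H670.PSing
import Cfsg.Agent.FastGrp
import Cfsg.Agent.Prune
set_option linter.all false
prune_inst 0x7f00000000000000000000000000000000000000000000000000000000000000000000000000000000000000000000000000000000000000000000000000000000000000000000000000000000000000003fffffffffffffffffffffffffffbeffbdffffffff
open scoped Cfsg.Agent.FastGrp

/-!
# Rank one: counting the irreducible characters which contain neither the trivial nor a given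
# linear character of the unipotent radical (helper732)

`Data H U w` a split BN-pair of rank one (`H` Borel, `U` unipotent radical, `T = H ∩ w H w⁻¹`, abelian), `ψ` a linear
character of `U` with inertia group `U` in `H`.

* `norm_sub` : the norm of `Ind (1 - ψ)` is `|T| + 1`.
* `count_eq` : at most `i` irreducible characters contain the trivial character of `U` and `ψ` with the same
  positive multiplicity, `i` the number of `w`-invariant characters of `T`.
* `exists_small` : if `k(G) > |T| + 1 + i` some irreducible character contains neither `1` nor `ψ`.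
-/

set_option autoImplicit false

open scoped ComplexConjugate

namespace Cfsg.Agent.H732.RankOneGG

open Cfsg Cfsg.Agent.Characters.Core Cfsg.Agent.OddOrderCharacters.Clifford
  Cfsg.Agent.LieRecognition.RankOneAbstract Cfsg.Agent.H710.Cuspidal

variable {G : Type*} [Group G] {H U T : Subgroup G} {w : G}

theorem conj_mem_U (D : Data H U w) {x : G} (hx : x ∈ H) {u : G} (hu : u ∈ U) : x⁻¹ * u * x ∈ U := by
  have := D.norm x⁻¹ (H.inv_mem hx) u hu
  rwa [inv_inv] at this

/-- the conjugate character -/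
def tw (D : Data H U w) (ψ : U →* ℂˣ) (x : H) : U →* ℂˣ where
  toFun u := ψ ⟨(x : G)⁻¹ * u * x, conj_mem_U D x.2 u.2⟩
  map_one' := by
    rw [← map_one ψ]; congr 1; apply Subtype.ext; simp
  map_mul' u v := by
    rw [← map_mul]; congr 1; apply Subtype.ext; simp only [mul_assoc, _root_.Subgroup.coe_mul, _root_.mul_assoc, _root_.MulMemClass.mk_mul_mk, _root_.mul_inv_cancel_left]

theorem tw_apply (D : Data H U w) (ψ : U →* ℂˣ) (x : H) (u : U) :
    tw D ψ x u = ψ ⟨(x : G)⁻¹ * u * x, conj_mem_U D x.2 u.2⟩ := rfl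

theorem tw_of_mem (D : Data H U w) (ψ : U →* ℂˣ) (x : H) (hx : (x : G) ∈ U) : tw D ψ x = ψ := by
  ext u
  rw [tw_apply]
  have h1 : (⟨(x : G)⁻¹ * u * x, conj_mem_U D x.2 u.2⟩ : U) = (⟨x, hx⟩ : U)⁻¹ * u * ⟨x, hx⟩ := by
    apply Subtype.ext; simp only [_root_.Subgroup.coe_mul, _root_.InvMemClass.coe_inv]
  rw [h1, map_mul, map_mul, map_inv, mul_comm (ψ _)⁻¹, inv_mul_cancel_right]

theorem inner_hom {A : Type*} [Group A] [Fintype A] (f g : A →* ℂˣ) [Decidable (f = g)] :
    classInner (fun a => (f a : ℂ)) (fun a => (g a : ℂ)) = if f = g then 1 else 0 := by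
  split_ifs with h
  · subst h
    exact classInner_irr_self (Characters.Linear.isIrrCharacter_hom f)
  · apply classInner_irr_ne (Characters.Linear.isIrrCharacter_hom f) (Characters.Linear.isIrrCharacter_hom g)
    intro h1
    apply h
    ext a
    exact congrFun h1 a

theorem inner_sub_hom {A : Type*} [Group A] [Fintype A] (f g : A →* ℂˣ) (hf : f ≠ 1) (hg : g ≠ 1)
    [Decidable (f = g)] :
    classInner (fun a => 1 - (f a : ℂ)) (fun a => 1 - (g a : ℂ)) = 1 + if f = g then 1 else 0 := by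
  classical
  have h1 : (fun a => 1 - (f a : ℂ)) = (fun a => ((1 : A →* ℂˣ) a : ℂ)) - fun a => (f a : ℂ) := by
    ext a; simp
  have h2 : (fun a => 1 - (g a : ℂ)) = (fun a => ((1 : A →* ℂˣ) a : ℂ)) - fun a => (g a : ℂ) := by
    ext a; simp
  rw [h1, h2, classInner_sub_left, classInner_sub_right, classInner_sub_right, inner_hom, inner_hom, inner_hom,
    inner_hom, if_pos rfl, if_neg hf, if_neg (Ne.symm hg)]
  split_ifs <;> ring

section norm

variable [Fintype G] [Fintype U]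

/-- **The norm of `Ind (1 - ψ)`**. -/
theorem norm_sub (D : Data H U w) (ψ : U →* ℂˣ) (hψ1 : ψ ≠ 1)
    (hψ : ∀ x : H, tw D ψ x = ψ → (x : G) ∈ U) :
    classInner (indFun U (fun u => 1 - (ψ u : ℂ))) (indFun U (fun u => 1 - (ψ u : ℂ))) =
      (Nat.card U : ℂ)⁻¹ * Nat.card H + 1 := by
  classical
  set φ : U → ℂ := fun u => 1 - (ψ u : ℂ) with hφ
  rw [classInner_indFun_indFun]
  have hcU : (Nat.card U : ℂ) ≠ 0 := card_ne_zero_complex
  have hout : ∀ x : G, x ∉ H → twist U φ φ x = 0 := by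
    intro x hx
    rw [twist_def]
    refine Finset.sum_eq_zero fun t _ => ?_
    by_cases ht : t = 1
    · rw [ht, hφ]
      simp only [_root_.map_one, _root_.Units.val_one, _root_.sub_self, _root_.OneMemClass.coe_one, _root_.mul_one, _root_.inv_mul_cancel, _root_.MulZeroClass.zero_mul]
    · have h1 : x⁻¹ * (t : G) * x ∉ U := by
        intro h2
        exact hx (mem_of_conj D t.2 (fun h => ht (Subtype.ext h)) (D.le h2))
      rw [ext_apply_not_mem U φ _ h1, map_zero, mul_zero]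
  have hin : ∀ x : H, twist U φ φ x = (Nat.card U : ℂ) * (1 + if (x : G) ∈ U then 1 else 0) := by
    intro x
    have htw : tw D ψ x ≠ 1 := by
      intro h
      apply hψ1
      ext u
      have h1 := DFunLike.congr_fun h (⟨(x : G) * u * (x : G)⁻¹, D.norm _ x.2 _ u.2⟩ : U)
      rw [tw_apply] at h1
      have h2 : (⟨(x : G)⁻¹ * ((x : G) * u * (x : G)⁻¹) * x, conj_mem_U D x.2 (D.norm _ x.2 _ u.2)⟩ : U) = u := by
        apply Subtype.ext
        simp only
        group
      rw [h2] at h1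
      rw [h1]
      rfl
    have h1 := inner_sub_hom ψ (tw D ψ x) hψ1 htw
    have h2 : (ψ = tw D ψ x) ↔ (x : G) ∈ U := ⟨fun h => hψ x h.symm, fun h => (tw_of_mem D ψ x h).symm⟩
    rw [classInner_apply, inv_mul_eq_iff_eq_mul₀ hcU] at h1
    rw [twist_def]
    simp only [← h2]
    rw [← h1]
    refine Finset.sum_congr rfl fun t _ => ?_
    rw [ext_apply_mem U φ _ (conj_mem_U D x.2 t.2)]
    rfl
  rw [sum_eq_sum_subgroup H _ hout, Finset.sum_congr rfl fun x _ => hin x, ← Finset.mul_sum, inv_mul_cancel_left₀ hcU,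
    Finset.sum_add_distrib, Finset.sum_const, Finset.card_univ, nsmul_eq_mul, mul_one, ← Nat.card_eq_fintype_card,
    mul_add]
  congr 1
  have h3 : ∑ x : H, (if (x : G) ∈ U then (1 : ℂ) else 0) = (Nat.card U : ℂ) := by
    rw [← Finset.sum_filter, Finset.sum_const, nsmul_eq_mul, mul_one, ← Fintype.card_subtype,
      ← Nat.card_eq_fintype_card]
    congr 1
    refine Nat.card_congr ?_
    exact
      { toFun := fun x => ⟨x.1.1, x.2⟩
        invFun := fun u => ⟨⟨u.1, D.le u.2⟩, u.2⟩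
        left_inv := fun x => rfl
        right_inv := fun x => rfl }
  rw [h3, inv_mul_cancel₀ hcU]

end norm

section mult

variable [Fintype G]

omit [Fintype G] in
theorem exists_mult' (L : Subgroup G) [Fintype L] (ψ : L →* ℂˣ) (χ : IrrCharacter G) :
    ∃ n : ℕ, classInner (fun u : L => (ψ u : ℂ)) (fun u : L => (χ : G → ℂ) u) = n :=
  classInner_isNat (Characters.Linear.isCharacter_hom ψ) (isCharacter_comp L.subtype (isIrr_isCharacter χ.2))

omit [Fintype G] in
/-- the multiplicity of a linear character of a subgroup -/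
noncomputable def mu (L : Subgroup G) [Fintype L] (ψ : L →* ℂˣ) (χ : IrrCharacter G) : ℕ :=
  (exists_mult' L ψ χ).choose

omit [Fintype G] in
theorem mu_spec (L : Subgroup G) [Fintype L] (ψ : L →* ℂˣ) (χ : IrrCharacter G) :
    classInner (fun u : L => (ψ u : ℂ)) (fun u : L => (χ : G → ℂ) u) = mu L ψ χ :=
  (exists_mult' L ψ χ).choose_spec

theorem ind_inner (L : Subgroup G) [Fintype L] (ψ : L →* ℂˣ) (χ : IrrCharacter G) :
    classInner (indFun L (fun u => (ψ u : ℂ))) (χ : G → ℂ) = mu L ψ χ := by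
  rw [classInner_indFun L _ _ (isIrr_isClassFunction χ.2), mu_spec]

variable [Fintype (IrrCharacter G)]

theorem ind_eq_sum (L : Subgroup G) [Fintype L] (ψ : L →* ℂˣ) :
    indFun L (fun u => (ψ u : ℂ)) = ∑ χ : IrrCharacter G, (mu L ψ χ : ℂ) • (χ : G → ℂ) := by
  conv_lhs => rw [classFunction_eq_sum (isClassFunction_indFun L (fun u => (ψ u : ℂ)))]
  exact Finset.sum_congr rfl fun χ _ => by rw [ind_inner]

/-- the sum of the squares of the differences of the multiplicities -/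
theorem sum_sq [Fintype U] (D : Data H U w) (ψ : U →* ℂˣ) (hψ1 : ψ ≠ 1)
    (hψ : ∀ x : H, tw D ψ x = ψ → (x : G) ∈ U) {t : ℕ} (ht : Nat.card H = Nat.card U * t) :
    ∑ χ : IrrCharacter G, ((mu U 1 χ : ℤ) - mu U ψ χ) ^ 2 = t + 1 := by
  classical
  have h1 := norm_sub D ψ hψ1 hψ
  have hcU : (Nat.card U : ℂ) ≠ 0 := card_ne_zero_complex
  rw [ht, Nat.cast_mul, inv_mul_cancel_left₀ hcU,
    classInner_eq_sum (isClassFunction_indFun U _) (isClassFunction_indFun U _)] at h1
  have h2 : ∀ χ : IrrCharacter G, classInner (indFun U (fun u => 1 - (ψ u : ℂ))) (χ : G → ℂ) =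
      ((mu U 1 χ : ℤ) - mu U ψ χ : ℤ) := by
    intro χ
    rw [classInner_indFun U _ _ (isIrr_isClassFunction χ.2)]
    have h3 : (fun u : U => 1 - (ψ u : ℂ)) = (fun u => ((1 : U →* ℂˣ) u : ℂ)) - fun u => (ψ u : ℂ) := by
      ext a; simp
    rw [h3, classInner_sub_left, mu_spec, mu_spec]
    push_cast
    rfl
  have h4 : ((∑ χ : IrrCharacter G, ((mu U 1 χ : ℤ) - mu U ψ χ) ^ 2 : ℤ) : ℂ) = ((t + 1 : ℤ) : ℂ) := by
    rw [Int.cast_add, Int.cast_one, Int.cast_natCast, ← h1, Int.cast_sum]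
    refine Finset.sum_congr rfl fun χ _ => ?_
    rw [h2 χ, Int.cast_pow, pow_two]
    congr 1
    simp
  exact_mod_cast h4

/-- at most `|T| + 1` characters contain `1` and `ψ` with different multiplicities -/
theorem count_ne [Fintype U] (D : Data H U w) (ψ : U →* ℂˣ) (hψ1 : ψ ≠ 1)
    (hψ : ∀ x : H, tw D ψ x = ψ → (x : G) ∈ U) {t : ℕ} (ht : Nat.card H = Nat.card U * t) :
    Nat.card {χ : IrrCharacter G // mu U 1 χ ≠ mu U ψ χ} ≤ t + 1 := by
  classical
  have h1 := sum_sq D ψ hψ1 hψ ht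
  have h2 : (Nat.card {χ : IrrCharacter G // mu U 1 χ ≠ mu U ψ χ} : ℤ) ≤
      ∑ χ : IrrCharacter G, ((mu U 1 χ : ℤ) - mu U ψ χ) ^ 2 := by
    rw [Nat.card_eq_fintype_card, Fintype.card_subtype, Finset.card_eq_sum_ones, Nat.cast_sum, Finset.sum_filter]
    refine Finset.sum_le_sum fun χ _ => ?_
    split_ifs with h
    · have h3 : (mu U 1 χ : ℤ) - mu U ψ χ ≠ 0 := by
        intro h4
        apply h
        omega
      have h5 : 0 < ((mu U 1 χ : ℤ) - mu U ψ χ) ^ 2 := by (clear * - h3; positivity)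
      push_cast
      omega
    · (clear * -; positivity)
  rw [h1] at h2
  exact_mod_cast h2

end mult

section ind

variable [Fintype G] [Fintype H]

omit [Fintype H] in
theorem ind_one (f : H →* ℂˣ) : indFun H (fun t => (f t : ℂ)) 1 = H.index := by
  have h1 : indFun H (fun t => (f t : ℂ)) 1 = (Nat.card H : ℂ)⁻¹ * ∑ _x : G, (1 : ℂ) := by
    rw [Cfsg.Agent.Characters.Core.indFun_apply]
    congr 1
    refine Finset.sum_congr rfl fun x _ => ?_
    have h2 : x⁻¹ * 1 * x = ((1 : H) : G) := by simp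
    rw [h2, ext_apply_coe, map_one, Units.val_one]
  rw [h1, Finset.sum_const, Finset.card_univ, nsmul_eq_mul, mul_one, ← Nat.card_eq_fintype_card,
    ← H.index_mul_card]
  have hc : (Nat.card H : ℂ) ≠ 0 := card_ne_zero_complex
  push_cast
  field_simp

theorem ind_of_mem (D : Data H U w) (f : H →* ℂˣ) (hfU : ∀ u : H, (u : G) ∈ U → f u = 1) {u : G} (hu : u ∈ U)
    (hu1 : u ≠ 1) : indFun H (fun t => (f t : ℂ)) u = 1 := by
  classical
  rw [Cfsg.Agent.Characters.Core.indFun_apply]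
  have h1 : ∑ x : G, extendByZero H (fun t => (f t : ℂ)) (x⁻¹ * u * x) = ∑ x : G, if x ∈ H then (1 : ℂ) else 0 := by
    refine Finset.sum_congr rfl fun x _ => ?_
    by_cases hx : x ∈ H
    · rw [if_pos hx]
      have h2 : x⁻¹ * (u : G) * x ∈ U := conj_mem_U D hx hu
      rw [ext_apply_mem H _ _ (D.le h2), hfU _ h2, Units.val_one]
    · rw [if_neg hx, ext_apply_not_mem]
      intro h2
      exact hx (mem_of_conj D hu hu1 h2)
  rw [h1, Finset.sum_ite, Finset.sum_const_zero, add_zero, Finset.sum_const, nsmul_eq_mul, mul_one]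
  have h3 : (Finset.univ.filter fun x : G => x ∈ H).card = Nat.card H := by
    rw [Nat.card_eq_fintype_card, Fintype.card_subtype]
  rw [h3]
  exact inv_mul_cancel₀ card_ne_zero_complex

omit [Fintype H] in
/-- `Ind f` is irreducible unless `f` is `w`-invariant -/
theorem ind_irr (D : Data H U w) (f : H →* ℂˣ) {d : G} (hd : d ∈ H) (hdw : w * d * w⁻¹ ∈ H)
    (hfne : f ⟨w * d * w⁻¹, hdw⟩ ≠ f ⟨d, hd⟩) : IsIrrCharacter G (indFun H (fun t => (f t : ℂ))) := by
  apply Cfsg.Agent.CharactersDeep.MackeyLinear.isIrrCharacter_indFun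
  intro x hx
  obtain ⟨s, hs, hsx⟩ := D.bruhat x hx
  set k := (s * w)⁻¹ * x with hk
  have hxe : x = s * w * k := by rw [hk]; group
  have hsH : s ∈ H := D.le hs
  refine ⟨⟨s, hsH⟩ * ⟨w * d * w⁻¹, hdw⟩ * ⟨s, hsH⟩⁻¹, ?_, ?_⟩
  · have h1 : x⁻¹ * ((⟨s, hsH⟩ * ⟨w * d * w⁻¹, hdw⟩ * ⟨s, hsH⟩⁻¹ : H) : G) * x = k⁻¹ * d * k := by
      rw [hxe]
      simp only [Subgroup.coe_mul, InvMemClass.coe_inv]
      group
    rw [h1]
    exact H.mul_mem (H.mul_mem (H.inv_mem hsx) hd) hsx
  · have h1 : f (⟨s, hsH⟩ * ⟨w * d * w⁻¹, hdw⟩ * ⟨s, hsH⟩⁻¹) = f ⟨w * d * w⁻¹, hdw⟩ := by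
      rw [map_mul, map_mul, map_inv, mul_comm (f ⟨s, hsH⟩), mul_inv_cancel_right]
    rw [h1]
    have h2 : ∀ (hh : x⁻¹ * ((⟨s, hsH⟩ * ⟨w * d * w⁻¹, hdw⟩ * ⟨s, hsH⟩⁻¹ : H) : G) * x ∈ H),
        (⟨_, hh⟩ : H) = ⟨k, hsx⟩⁻¹ * ⟨d, hd⟩ * ⟨k, hsx⟩ := by
      intro hh
      apply Subtype.ext
      simp only [Subgroup.coe_mul, InvMemClass.coe_inv]
      rw [hxe]
      group
    rw [h2, map_mul, map_mul, map_inv, mul_comm (f ⟨k, hsx⟩)⁻¹, inv_mul_cancel_right]
    exact hfne

variable [Fintype U] [Fintype (IrrCharacter G)]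

/-- **`(Ind f) | U = 1 + reg`** -/
theorem sum_mul (D : Data H U w) (f : H →* ℂˣ) (hfU : ∀ u : H, (u : G) ∈ U → f u = 1) (ψ : U →* ℂˣ)
    [Decidable (ψ = 1)] :
    ∑ χ : IrrCharacter G, mu H f χ * mu U ψ χ = 1 + if ψ = 1 then 1 else 0 := by
  classical
  have hcU : (Nat.card U : ℂ) ≠ 0 := card_ne_zero_complex
  set I := indFun H (fun t => (f t : ℂ)) with hI
  have h1 : classInner (fun u : U => (ψ u : ℂ)) (fun u : U => I u) =
      ∑ χ : IrrCharacter G, (mu H f χ : ℂ) * mu U ψ χ := by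
    have h2 : (fun u : U => I u) = ∑ χ : IrrCharacter G, (mu H f χ : ℂ) • (fun u : U => (χ : G → ℂ) u) := by
      ext u
      rw [hI, ind_eq_sum]
      simp only [Finset.sum_apply, Pi.smul_apply]
    rw [h2, classInner_sum_right]
    refine Finset.sum_congr rfl fun χ _ => ?_
    rw [classInner_smul_right, mu_spec]
    simp
  have h3 : classInner (fun u : U => (ψ u : ℂ)) (fun u : U => I u) = 1 + if ψ = 1 then 1 else 0 := by
    have h4 : (fun u : U => I u) = (fun u => ((1 : U →* ℂˣ) u : ℂ)) + fun u => if u = 1 then (Nat.card U : ℂ) else 0 := by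
      ext u
      rw [Pi.add_apply]
      by_cases hu : u = 1
      · rw [if_pos hu, hu, OneMemClass.coe_one, hI, ind_one, map_one, Units.val_one, D.index]
        push_cast
        ring
      · rw [if_neg hu, hI, ind_of_mem D f hfU u.2 (fun h => hu (Subtype.ext h))]
        simp
    rw [h4, classInner_add_right, inner_hom, classInner_apply]
    have h5 : ∑ g : U, (ψ g : ℂ) * conj (if g = 1 then (Nat.card U : ℂ) else 0) = Nat.card U := by
      rw [Finset.sum_eq_single (1 : U)]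
      · simp only [_root_.map_one, _root_.Units.val_one, ↓ _root_.reduceIte, _root_.Nat.card_eq_fintype_card, _root_.map_natCast, _root_.one_mul]
      · intro b _ hb
        rw [if_neg hb]; simp
      · intro h; exact absurd (Finset.mem_univ _) h
    rw [h5, inv_mul_cancel₀ hcU, add_comm]
  rw [h1] at h3
  have h6 : ((∑ χ : IrrCharacter G, mu H f χ * mu U ψ χ : ℕ) : ℂ) = ((1 + if ψ = 1 then 1 else 0 : ℕ) : ℂ) := by
    rw [Nat.cast_sum]
    simp only [Nat.cast_mul]
    rw [h3]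
    split_ifs <;> norm_num
  exact_mod_cast h6

end ind

section lin

/-- An irreducible character of `B` whose restriction to `U` contains the trivial one is linear. -/
theorem degree_one {B : Type*} [Group B] [Finite B] (K : Subgroup B) [Fintype K] (hK : ∀ h, ∀ u ∈ K, h * u * h⁻¹ ∈ K)
    (hab : ∀ h k : B, ∃ u ∈ K, h * k = k * h * u) {η : B → ℂ} (hη : IsIrrCharacter B η)
    (h : ∑ k : K, η k ≠ 0) : η 1 = 1 := by
  obtain ⟨n, ρ, hρ, rfl⟩ := hη
  have hZ : Z ρ K ≠ 0 := by
    intro hZ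
    apply h
    have : ∑ u : K, ρ.character u = LinearMap.trace ℂ (Fin n → ℂ) (Z ρ K) := by
      rw [Z, map_sum]
      rfl
    rw [this, hZ, map_zero]
  have h1 := finrank_le_index ρ ⊤ K (fun h _ u hu => hK h u hu) (fun h _ k _ => hab h k) hZ
  rw [Subgroup.index_top] at h1
  obtain ⟨k, hk, hk1⟩ := isIrr_apply_one (isIrrCharacter_of_rep ρ hρ)
  rw [Representation.char_one] at hk1 ⊢
  have h2 : Module.finrank ℂ (Fin n → ℂ) = k := by exact_mod_cast hk1
  have h3 : Module.finrank ℂ (Fin n → ℂ) = 1 := by omega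
  rw [h3, Nat.cast_one]

variable [Finite G] [Fintype U] [Fintype H]

theorem exists_lin (D : Data H U w) (hab : ∀ h ∈ H, ∀ k ∈ H, ∃ u ∈ U, h * k = k * h * u)
    (χ : IrrCharacter G) (h : mu U 1 χ ≠ 0) :
    ∃ f : H →* ℂˣ, (∀ u : H, (u : G) ∈ U → f u = 1) ∧ mu H f χ ≠ 0 := by
  classical
  have : Finite (IrrCharacter H) := finite_irr
  have := Fintype.ofFinite (IrrCharacter H)
  have hcH : (Nat.card H : ℂ) ≠ 0 := card_ne_zero_complex
  have hcU : (Nat.card U : ℂ) ≠ 0 := card_ne_zero_complex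
  obtain ⟨m, hm⟩ := isCharacter_iff.1 (isCharacter_comp H.subtype (isIrr_isCharacter χ.2))
  have h1 : ∑ u : U, (χ : G → ℂ) u ≠ 0 := by
    intro h0
    apply h
    have h2 := mu_spec U 1 χ
    rw [classInner_apply] at h2
    have h3 : ∑ g : U, ((1 : U →* ℂˣ) g : ℂ) * conj ((χ : G → ℂ) g) = conj (∑ u : U, (χ : G → ℂ) u) := by
      rw [map_sum]
      exact Finset.sum_congr rfl fun g _ => by simp
    rw [h3, h0, map_zero, mul_zero] at h2
    exact_mod_cast h2.symm
  have h2 : ∀ x : H, (χ : G → ℂ) x = ∑ η : IrrCharacter H, (m η : ℂ) * (η : H → ℂ) x := by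
    intro x
    have := congrFun hm x
    rw [Function.comp_apply, Subgroup.coe_subtype] at this
    rw [this, Finset.sum_apply]
    exact Finset.sum_congr rfl fun η _ => by rw [Pi.smul_apply, nsmul_eq_mul]
  have h3 : ∑ u : U, (χ : G → ℂ) u =
      ∑ η : IrrCharacter H, (m η : ℂ) * ∑ u : U, (η : H → ℂ) ⟨u, D.le u.2⟩ := by
    simp only [Finset.mul_sum]
    rw [Finset.sum_comm]
    exact Finset.sum_congr rfl fun u _ => h2 ⟨u, D.le u.2⟩
  obtain ⟨η, hη1, hη2⟩ : ∃ η : IrrCharacter H, m η ≠ 0 ∧ ∑ u : U, (η : H → ℂ) ⟨u, D.le u.2⟩ ≠ 0 := by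
    by_contra hcon
    push Not at hcon
    apply h1
    rw [h3]
    refine Finset.sum_eq_zero fun η _ => ?_
    by_cases h0 : m η = 0
    · rw [h0, Nat.cast_zero, zero_mul]
    · rw [hcon η h0, mul_zero]
  have h4 : (η : H → ℂ) 1 = 1 := by
    refine degree_one (U.subgroupOf H) ?_ ?_ η.2 ?_
    · intro x u hu
      rw [Subgroup.mem_subgroupOf] at hu ⊢
      exact D.norm x x.2 _ hu
    · intro a b
      obtain ⟨u, hu, h5⟩ := hab a a.2 b b.2
      refine ⟨⟨u, D.le hu⟩, ?_, Subtype.ext h5⟩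
      rw [Subgroup.mem_subgroupOf]
      exact hu
    · intro h5
      apply hη2
      rw [← h5]
      refine Fintype.sum_equiv (Subgroup.subgroupOfEquivOfLe D.le).toEquiv.symm _ _ fun u => ?_
      rfl
  obtain ⟨f, hf⟩ := Characters.Linear.exists_hom_of_isIrrCharacter η.2 h4
  refine ⟨f, ?_, ?_⟩
  · set g : U →* ℂˣ := f.comp (Subgroup.inclusion D.le) with hg
    have h5 : g = 1 := by
      by_contra hne
      apply hη2
      have h6 := inner_hom g (1 : U →* ℂˣ)
      rw [if_neg hne, classInner_apply, inv_mul_eq_iff_eq_mul₀ hcU, mul_zero] at h6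
      rw [← h6]
      refine Finset.sum_congr rfl fun u _ => ?_
      rw [hf]
      simp only [hg, Subgroup.inclusion, _root_.Subgroup.inclusion, _root_.MonoidHom.coe_comp, _root_.MonoidHom.mk'_apply, _root_.Function.comp_apply, _root_.MonoidHom.one_apply, _root_.Units.val_one, _root_.map_one, _root_.mul_one]
    intro u hu
    have h6 := DFunLike.congr_fun h5 ⟨u, hu⟩
    exact h6
  · have h5 := mu_spec H f χ
    intro h0
    rw [h0, Nat.cast_zero, ← classInner_conj_symm] at h5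
    have h6 := (map_eq_zero _).1 h5
    have h7 : (fun u : H => (χ : G → ℂ) u) = (χ : G → ℂ) ∘ H.subtype := rfl
    rw [h7, hm, ← hf, classInner_sum_nsmul_irr] at h6
    exact hη1 (by exact_mod_cast h6)

end lin

section count

variable [Fintype G] [Fintype U] [Fintype H] [Fintype (IrrCharacter G)]

/-- `w`-invariant characters of `H / U` -/
def Inv (H U : Subgroup G) (w : G) (f : H →* ℂˣ) : Prop :=
  (∀ u : H, (u : G) ∈ U → f u = 1) ∧ ∀ (d : G) (hd : d ∈ H) (hdw : w * d * w⁻¹ ∈ H), f ⟨w * d * w⁻¹, hdw⟩ = f ⟨d, hd⟩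

omit [Fintype G] [Fintype U] [Fintype H] [Fintype (IrrCharacter G)] in
theorem finite_hom (A : Type*) [Group A] [Finite A] : Finite (A →* ℂˣ) := by
  have : Finite (IrrCharacter A) := finite_irr
  refine Finite.of_injective (fun f : A →* ℂˣ => (⟨fun g => (f g : ℂ), Characters.Linear.isIrrCharacter_hom f⟩ :
    IrrCharacter A)) ?_
  intro f g h
  ext a
  exact congrFun (congrArg Subtype.val h) a

theorem count_eq (D : Data H U w) (hab : ∀ h ∈ H, ∀ k ∈ H, ∃ u ∈ U, h * k = k * h * u) (ψ : U →* ℂˣ) (hψ1 : ψ ≠ 1) :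
    Nat.card {χ : IrrCharacter G // mu U 1 χ = mu U ψ χ ∧ mu U 1 χ ≠ 0} ≤ Nat.card {f : H →* ℂˣ // Inv H U w f} := by
  classical
  have := finite_hom H
  choose f hf1 hf2 using fun χ : {χ : IrrCharacter G // mu U 1 χ = mu U ψ χ ∧ mu U 1 χ ≠ 0} =>
    exists_lin D hab χ.1 χ.2.2
  have hinv : ∀ χ, Inv H U w (f χ) := by
    intro χ
    refine ⟨hf1 χ, fun d hd hdw => ?_⟩
    by_contra hne
    have hirr := ind_irr D (f χ) hd hdw hne
    have h1 : ∀ χ' : IrrCharacter G, χ' ≠ χ.1 → mu H (f χ) χ' = 0 := by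
      intro χ' hχ'
      have h2 := ind_inner H (f χ) χ'
      by_contra h0
      have h3 : ((χ' : G → ℂ)) = indFun H (fun u => (f χ u : ℂ)) := by
        by_contra h4
        rw [classInner_irr_ne hirr χ'.2 (fun h => h4 h.symm)] at h2
        exact h0 (by exact_mod_cast h2.symm)
      have h5 : ((χ.1 : G → ℂ)) = indFun H (fun u => (f χ u : ℂ)) := by
        by_contra h4
        have h6 := ind_inner H (f χ) χ.1
        rw [classInner_irr_ne hirr χ.1.2 (fun h => h4 h.symm)] at h6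
        exact hf2 χ (by exact_mod_cast h6.symm)
      exact hχ' (Subtype.ext (h3.trans h5.symm))
    have s1 := sum_mul D (f χ) (hf1 χ) 1
    have s2 := sum_mul D (f χ) (hf1 χ) ψ
    rw [Finset.sum_eq_single χ.1 (fun χ' _ h => by rw [h1 χ' h, zero_mul])
      (fun h => absurd (Finset.mem_univ _) h)] at s1 s2
    rw [if_pos rfl, χ.2.1] at s1
    rw [if_neg hψ1] at s2
    omega
  have := Fintype.ofFinite {f : H →* ℂˣ // Inv H U w f}
  refine Nat.card_le_card_of_injective (fun χ => (⟨f χ, hinv χ⟩ : {f : H →* ℂˣ // Inv H U w f})) ?_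
  intro χ₁ χ₂ h12
  have h12 : f χ₁ = f χ₂ := congrArg Subtype.val h12
  by_contra hne
  have hne' : χ₁.1 ≠ χ₂.1 := fun h => hne (Subtype.ext h)
  have s2 := sum_mul D (f χ₁) (hf1 χ₁) ψ
  rw [if_neg hψ1] at s2
  have h3 : mu H (f χ₁) χ₁.1 * mu U ψ χ₁.1 + mu H (f χ₁) χ₂.1 * mu U ψ χ₂.1 ≤
      ∑ χ : IrrCharacter G, mu H (f χ₁) χ * mu U ψ χ := by
    rw [← Finset.sum_pair hne' (f := fun χ => mu H (f χ₁) χ * mu U ψ χ)]
    exact Finset.sum_le_sum_of_subset (Finset.subset_univ _)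
  have h4 : 0 < mu H (f χ₁) χ₁.1 := Nat.pos_of_ne_zero (hf2 χ₁)
  have h5 : 0 < mu H (f χ₁) χ₂.1 := by rw [h12]; exact Nat.pos_of_ne_zero (hf2 χ₂)
  have h6 : 0 < mu U ψ χ₁.1 := by rw [← χ₁.2.1]; exact Nat.pos_of_ne_zero χ₁.2.2
  have h7 : 0 < mu U ψ χ₂.1 := by rw [← χ₂.2.1]; exact Nat.pos_of_ne_zero χ₂.2.2
  have h8 := Nat.mul_pos h4 h6
  have h9 := Nat.mul_pos h5 h7
  omega

/-- **A character containing neither the trivial character of `U` nor `ψ`.** -/
theorem exists_small (D : Data H U w) (hab : ∀ h ∈ H, ∀ k ∈ H, ∃ u ∈ U, h * k = k * h * u) (ψ : U →* ℂˣ) (hψ1 : ψ ≠ 1)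
    (hψ : ∀ x : H, tw D ψ x = ψ → (x : G) ∈ U) {t : ℕ} (ht : Nat.card H = Nat.card U * t) {i : ℕ}
    (hi : Nat.card {f : H →* ℂˣ // Inv H U w f} ≤ i) (hk : t + 1 + i < Nat.card (ConjClasses G)) :
    ∃ χ : IrrCharacter G, mu U 1 χ = 0 ∧ mu U ψ χ = 0 := by
  classical
  by_contra hcon
  push Not at hcon
  have h1 := count_ne D ψ hψ1 hψ ht
  have h2 := (count_eq D hab ψ hψ1).trans hi
  rw [← card_irr] at hk
  have h3 : Nat.card (IrrCharacter G) ≤ Nat.card {χ : IrrCharacter G // mu U 1 χ ≠ mu U ψ χ} +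
      Nat.card {χ : IrrCharacter G // mu U 1 χ = mu U ψ χ ∧ mu U 1 χ ≠ 0} := by
    have e1 : Nat.card (IrrCharacter G) = (Finset.univ : Finset (IrrCharacter G)).card := by
      rw [Nat.card_eq_fintype_card, Finset.card_univ]
    have e2 : Nat.card {χ : IrrCharacter G // mu U 1 χ ≠ mu U ψ χ} =
        (Finset.univ.filter fun χ : IrrCharacter G => mu U 1 χ ≠ mu U ψ χ).card := by
      rw [Nat.card_eq_fintype_card, Fintype.card_subtype]
    have e3 : Nat.card {χ : IrrCharacter G // mu U 1 χ = mu U ψ χ ∧ mu U 1 χ ≠ 0} =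
        (Finset.univ.filter fun χ : IrrCharacter G => mu U 1 χ = mu U ψ χ ∧ mu U 1 χ ≠ 0).card := by
      rw [Nat.card_eq_fintype_card, Fintype.card_subtype]
    rw [e1, e2, e3]
    refine le_trans (Finset.card_le_card ?_) (Finset.card_union_le _ _)
    intro χ _
    rw [Finset.mem_union, Finset.mem_filter, Finset.mem_filter]
    by_cases h : mu U 1 χ = mu U ψ χ
    · right
      refine ⟨Finset.mem_univ _, h, ?_⟩
      intro h0
      exact hcon χ h0 (h ▸ h0)
    · left
      exact ⟨Finset.mem_univ _, h⟩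
  omega

end count

end Cfsg.Agent.H732.RankOneGG

private theorem dce_430234a38e94 : _root_.True := by
  try have : _root_.True := by simp only [_root_.Cfsg.Agent.H732.RankOneGG.tw.congr_simp]
  exact _root_.True.intro
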